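import Cfsg.Agent.H981.Cov.MainU
import Cfsg.Agent.S5841
import Cfsg.Agent.S0815
import Cfsg.Agent.S0280

/-!
# S2499, the row `PSU_10(2)` (task 3941)

The elements of order `19` are reducible of type `1 + 9`; their overgroups are found with `S5841`, `S5842`.
-/

set_option autoImplicit false

namespace Cfsg.Agent.H981.Cov

open Cfsg Cfsg.Geo Module Matrix
open Cfsg.Agent.LieClassical.HermBasic
open Cfsg.Agent.H278.Cov
open Cfsg.Agent.H674.SUTools (cm cm_injective det_cm mkSU cm_mkSU cm_isom orderOf_cm)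
open Cfsg.Agent.H779.DP (rho rho_apply rho_injective)
open Cfsg.Agent.H809.SelfCent (toG toG_injective toG_val)
open Cfsg.Agent.H906.Cov (exists_num_u)

/-- the text of `S5842` -/
def S5842Stmt : Prop :=
  ∀ {F : Type} [Field F] [Fintype F] (q : ℕ) (_hF : Fintype.card F = q ^ 2) (H : Subgroup (Matrix.GeneralLinearGroup (Fin 10) F)) (_hH : Cfsg.Geo.IsMaximalIn (Cfsg.GU 10 F q ⊓ Cfsg.Geo.specialLinear (Fin 10) F) H) (_hS : Cfsg.Geo.InUnitaryResidualClass H),
    ∃ (P : Subgroup (Matrix.GeneralLinearGroup (Fin 10) F)) (p : ℕ), Cfsg.Geo.IsResidualCore H P ∧ p.Prime ∧ CharP F p ∧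
    ((Nonempty ((P ⧸ (Cfsg.Geo.scalars (Fin 10) F).subgroupOf P) ≃* Matrix.ProjectiveSpecialLinearGroup (Fin 2) (ZMod 19)) ∧ q = p ∧ p ≠ 2 ∧ (p % 19 = 2 ∨ p % 19 = 3 ∨ p % 19 = 8 ∨ p % 19 = 10 ∨ p % 19 = 12 ∨ p % 19 = 13 ∨ p % 19 = 14 ∨ p % 19 = 15 ∨ p % 19 = 18)) ∨
     (Cfsg.Spor.IsoM12 (P ⧸ (Cfsg.Geo.scalars (Fin 10) F).subgroupOf P) ∧ q = p ∧ (p % 8 = 5 ∨ p % 8 = 7)) ∨
     (Cfsg.Spor.IsoM22 (P ⧸ (Cfsg.Geo.scalars (Fin 10) F).subgroupOf P) ∧ q = p ∧ (p % 28 = 5 ∨ p % 28 = 13 ∨ p % 28 = 17 ∨ p % 28 = 3 ∨ p % 28 = 19 ∨ p % 28 = 27)) ∨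
     (Nonempty ((P ⧸ (Cfsg.Geo.scalars (Fin 10) F).subgroupOf P) ≃* Cfsg.PSU 3 F q) ∧ 5 ≤ p) ∨
     (Nonempty ((P ⧸ (Cfsg.Geo.scalars (Fin 10) F).subgroupOf P) ≃* Cfsg.PSU 4 F q) ∧ 3 ≤ p) ∨
     Nonempty ((P ⧸ (Cfsg.Geo.scalars (Fin 10) F).subgroupOf P) ≃* Cfsg.PSU 5 F q))

/-! ### maximal subgroups of `SU` inside `GL` -/

section Max

variable {F : Type} [Field F] [Fintype F] {n q : ℕ}

theorem range_toG : (toG n F q).range = GU n F q ⊓ specialLinear (Fin n) F := by
  ext g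
  constructor
  · rintro ⟨z, rfl⟩
    refine ⟨fun u v => z.2 u v, ?_⟩
    apply Units.ext
    exact det_cm z
  · rintro ⟨h1, h2⟩
    have h3 : (g : Matrix (Fin n) (Fin n) F).det = 1 := congrArg Units.val (MonoidHom.mem_ker.1 h2)
    exact ⟨⟨⟨(g : Matrix (Fin n) (Fin n) F), h3⟩, fun u v => h1 u v⟩, Units.ext rfl⟩

theorem isMaximalIn_map {G G' : Type*} [Group G] [Group G'] (f : G →* G') (hf : Function.Injective f)
    {H : Subgroup G} (hH : IsCoatom H) : IsMaximalIn f.range (H.map f) := by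
  constructor
  · refine lt_of_le_of_ne ?_ ?_
    · rintro _ ⟨x, -, rfl⟩
      exact ⟨x, rfl⟩
    · intro h
      apply hH.1
      rw [eq_top_iff]
      intro x _
      have h1 : f x ∈ H.map f := by rw [h]; exact ⟨x, rfl⟩
      obtain ⟨y, hy, hyx⟩ := h1
      rwa [← hf hyx]
  · intro M hM1 hM2
    have h1 : H ≤ M.comap f := fun x hx => hM1 ⟨x, hx, rfl⟩
    have h2 : M = (M.comap f).map f := by
      ext y
      constructor
      · intro hy
        obtain ⟨x, rfl⟩ := hM2 hy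
        exact ⟨x, hy, rfl⟩
      · rintro ⟨x, hx, rfl⟩
        exact hx
    rcases eq_or_lt_of_le h1 with h3 | h3
    · left
      rw [h2, ← h3]
    · right
      rw [h2, hH.2 _ h3]
      ext y
      constructor
      · rintro ⟨x, -, rfl⟩
        exact ⟨x, rfl⟩
      · rintro ⟨x, rfl⟩
        exact ⟨x, trivial, rfl⟩

end Max

/-! ### elements of order `19` -/

/-- an element of large prime order fixes the members of a decomposition -/
theorem fix_decomp {F : Type} [Field F] {n t m l : ℕ} {D : Fin t → Submodule F (Fin n → F)} (hD : IsMDecomposition m D)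
    (hl : l.Prime) (htl : t < l) {g : GL (Fin n) F} (hg : g ∈ decompositionStabilizer D) (hgl : g ^ l = 1)
    (i : Fin t) : (D i).map (Matrix.toLin' (g : Matrix (Fin n) (Fin n) F)) = D i := by
  obtain ⟨σ, hσ⟩ := hg
  have hinj : ∀ i j, D i = D j → i = j := by
    intro i j hij
    by_contra hne
    have h1 : Disjoint (D i) (D j) := hD.indep.pairwiseDisjoint hne
    rw [← hij, disjoint_self] at h1
    have h2 := hD.finrank_eq i
    rw [h1, finrank_bot] at h2
    exact hD.pos.ne h2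
  have hpow : ∀ k : ℕ, ∀ i, (D i).map (Matrix.toLin' ((g ^ k : GL (Fin n) F) : Matrix (Fin n) (Fin n) F)) =
      D ((σ ^ k) i) := by
    intro k
    induction k with
    | zero => intro i; simp
    | succ k ih =>
      intro i
      rw [pow_succ', Units.val_mul, Matrix.toLin'_mul, Submodule.map_comp, ih, hσ, pow_succ']
      rfl
  have h1 : σ ^ l = 1 := by
    ext i
    have h2 := hpow l i
    rw [hgl, Units.val_one, Matrix.toLin'_one, Submodule.map_id] at h2
    rw [← hinj _ _ h2]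
    rfl
  have h2 : σ = 1 := by
    rcases (Nat.dvd_prime hl).1 (orderOf_dvd_of_pow_eq_one h1) with h3 | h3
    · exact orderOf_eq_one_iff.1 h3
    · exfalso
      have h4 : l ∣ t.factorial := by
        rw [← h3]
        have := orderOf_dvd_card (x := σ)
        rwa [Fintype.card_perm, Fintype.card_fin] at this
      have := (hl.dvd_factorial).1 h4
      omega
  rw [hσ, h2]
  rfl

/-- elements of order `19` do not act on `PSU_5(2)` -/
theorem residual_false {F : Type} [Field F] [Fintype F] (hF : Fintype.card F = 2 ^ 2)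
    {M P : Subgroup (GL (Fin 10) F)} (hc : IsResidualCore M P)
    (e : (P ⧸ (scalars (Fin 10) F).subgroupOf P) ≃* PSU 5 F 2) {t : GL (Fin 10) F} (ht : t ∈ M)
    (ho : orderOf t = 19) : False := by
  have h19 : Nat.Prime 19 := by norm_num
  have ht19 : t ^ 19 = 1 := by rw [← ho, pow_orderOf_eq_one]
  have hti : t⁻¹ ∈ M := M.inv_mem ht
  let α : P ≃* P :=
    { toFun := fun x => ⟨t * x * t⁻¹, hc.normal t ht x x.2⟩
      invFun := fun x => ⟨t⁻¹ * x * t⁻¹⁻¹, hc.normal _ hti x x.2⟩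
      left_inv := fun x => Subtype.ext (by
        change t⁻¹ * (t * (x : GL (Fin 10) F) * t⁻¹) * t⁻¹⁻¹ = x
        group)
      right_inv := fun x => Subtype.ext (by
        change t * (t⁻¹ * (x : GL (Fin 10) F) * t⁻¹⁻¹) * t⁻¹ = x
        group)
      map_mul' := fun x y => Subtype.ext (by
        change t * ((x : GL (Fin 10) F) * y) * t⁻¹ = (t * x * t⁻¹) * (t * y * t⁻¹)
        group) }
  have hα : ∀ x : P, ((α x : P) : GL (Fin 10) F) = t * x * t⁻¹ := fun _ => rfl
  have hαk : ∀ (k : ℕ) (x : P), (((α : MulAut P) ^ k) x : GL (Fin 10) F) = t ^ k * x * (t ^ k)⁻¹ := by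
    intro k
    induction k with
    | zero => intro x; simp
    | succ k ih =>
      intro x
      have h1 : ((α : MulAut P) ^ (k + 1)) x = α (((α : MulAut P) ^ k) x) := by
        rw [pow_succ']; rfl
      rw [h1, hα, ih]
      rw [pow_succ']
      group
  set Z := (scalars (Fin 10) F).subgroupOf P with hZ
  have hcent : ∀ z ∈ scalars (Fin 10) F, ∀ g : GL (Fin 10) F, g * z * g⁻¹ = z := by
    rintro z ⟨c, rfl⟩ g
    rw [mul_inv_eq_iff_eq_mul]
    apply Units.ext
    change (g : Matrix (Fin 10) (Fin 10) F) * Matrix.scalar (Fin 10) (c : F) =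
      Matrix.scalar (Fin 10) (c : F) * (g : Matrix (Fin 10) (Fin 10) F)
    exact ((Matrix.scalar_commute (c : F) (fun _ => Commute.all _ _) (g : Matrix (Fin 10) (Fin 10) F)).eq).symm
  have hmap : Z.map (α : P →* P) = Z := by
    ext x
    constructor
    · rintro ⟨y, hy, rfl⟩
      have h1 : (y : GL (Fin 10) F) ∈ scalars (Fin 10) F := hy
      change ((α y : P) : GL (Fin 10) F) ∈ scalars (Fin 10) F
      rw [hα, hcent _ h1]
      exact h1
    · intro hx
      have h1 : (x : GL (Fin 10) F) ∈ scalars (Fin 10) F := hx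
      refine ⟨x, hx, Subtype.ext ?_⟩
      change t * (x : GL (Fin 10) F) * t⁻¹ = x
      exact hcent _ h1 t
  let β : MulAut (P ⧸ Z) := QuotientGroup.congr Z Z α hmap
  have hβ : ∀ x : P, β (QuotientGroup.mk x) = QuotientGroup.mk (α x) := fun _ => rfl
  have hβk : ∀ (k : ℕ) (x : P), (β ^ k) (QuotientGroup.mk x) = QuotientGroup.mk (((α : MulAut P) ^ k) x) := by
    intro k
    induction k with
    | zero => intro x; rfl
    | succ k ih =>
      intro x
      have h1 : (β ^ (k + 1)) (QuotientGroup.mk x) = β ((β ^ k) (QuotientGroup.mk x)) := by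
        rw [pow_succ']; rfl
      have h2 : ((α : MulAut P) ^ (k + 1)) x = α (((α : MulAut P) ^ k) x) := by
        rw [pow_succ']; rfl
      rw [h1, ih, hβ, h2]
  have hβ19 : β ^ 19 = 1 := by
    apply MulEquiv.ext
    intro y
    obtain ⟨x, rfl⟩ := QuotientGroup.mk_surjective y
    rw [hβk]
    have h1 : ((α : MulAut P) ^ 19) x = x := by
      apply Subtype.ext
      rw [hαk, ht19, inv_one, mul_one, one_mul]
    rw [h1]
    rfl
  have hβ1 : β ≠ 1 := by
    intro h
    have h1 : t ∈ scalars (Fin 10) F := by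
      apply hc.centralizer_scalar t ht
      intro x hx
      have h2 : β (QuotientGroup.mk (⟨x, hx⟩ : P)) = QuotientGroup.mk (⟨x, hx⟩ : P) := by rw [h]; rfl
      rw [hβ, QuotientGroup.eq] at h2
      have h3 : ((α ⟨x, hx⟩ : P)⁻¹ * (⟨x, hx⟩ : P) : P).1 ∈ scalars (Fin 10) F := h2
      have h4 : (t * x * t⁻¹)⁻¹ * x ∈ scalars (Fin 10) F := h3
      have h5 := hcent _ h4 x
      have h6 : t * x * t⁻¹ * x⁻¹ = ((t * x * t⁻¹)⁻¹ * x)⁻¹ := by
        rw [← h5]
        group
      rw [h6]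
      exact Subgroup.inv_mem _ h4
    obtain ⟨c, hc1⟩ := h1
    have h2 : t ^ 3 = 1 := by
      have h3 : c ^ 3 = 1 := by
        apply Units.ext
        have h4 := FiniteField.pow_card_sub_one_eq_one (c : F) c.ne_zero
        rw [hF] at h4
        exact h4
      rw [← hc1, ← map_pow, h3, map_one]
    have h3 := orderOf_dvd_of_pow_eq_one h2
    rw [ho] at h3
    exact absurd h3 (by norm_num)
  have hoβ : orderOf β = 19 := by
    have := Fact.mk h19
    exact orderOf_eq_prime hβ19 hβ1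
  have hfin : Finite (PSU 5 F 2) := Quotient.finite _
  have : Finite (P ⧸ Z) := Quotient.finite _
  have hdvd : 19 ∣ Nat.card (MulAut (PSU 5 F 2)) := by
    have h1 : Nat.card (MulAut (P ⧸ Z)) = Nat.card (MulAut (PSU 5 F 2)) :=
      Nat.card_congr (MulAut.congr e).toEquiv
    rw [← h1, ← hoβ]
    exact orderOf_dvd_natCard β
  have : Fact (Nat.Prime 2) := ⟨Nat.prime_two⟩
  rw [S0815.result 2 1 le_rfl (q := 2) (by norm_num) hF 5 (by norm_num) (by norm_num)] at hdvd
  have hcard := S0280.result (q := 2) hF 5 (by norm_num)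
  simp only [Finset.prod_range_succ, Finset.prod_range_zero] at hcard
  norm_num at hcard hdvd
  omega

section Row

variable {F : Type} [Field F] [Fintype F]

/-- elements `1 + [9]` of order `19` -/
theorem exists_nineteen (hF : Fintype.card F = 2 ^ 2) : ∃ x : SU 10 F 2, orderOf x = 19 ∧ fd x = 1 ∧
    IsD x (fun t => ∃ i j, t = 9 * i + j ∧ i ≤ 1 ∧ j ≤ 1) := by
  obtain ⟨l, B, hl, u, hu⟩ := exists_odd_block hF (k := 9) (by decide) (by norm_num) (by norm_num)
  have h19 : l = 19 := by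
    have h1 : l ∣ 2 ^ 9 + 1 := dvd_add_one B.pr (by norm_num) hl
    have h2 : (2 ^ 9 + 1 : ℕ) = 3 ^ 3 * 19 := by norm_num
    rw [h2] at h1
    rcases (Nat.Prime.dvd_mul B.pr).1 h1 with h3 | h3
    · exfalso
      have h4 : l = 3 := (Nat.prime_dvd_prime_iff_eq B.pr Nat.prime_three).1 (B.pr.dvd_of_dvd_pow h3)
      have h5 := (hl 2).1 (by rw [h4]; norm_num)
      omega
    · exact (Nat.prime_dvd_prime_iff_eq B.pr (by norm_num)).1 h3
  subst h19
  have hul : u ^ 19 = 1 := by rw [← hu, pow_orderOf_eq_one]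
  have hune : u ≠ 1 := by
    intro h
    rw [h, orderOf_one] at hu
    omega
  have hfu := B.ff u hul hune
  have hfd : fd (bk hF ((1 : SU 1 F 2), u)) = 1 := by rw [fd_bk, hfu, fd_one]
  refine ⟨bk hF ((1 : SU 1 F 2), u), ?_, hfd, ?_⟩
  · rw [orderOf_injective _ (bk_injective hF), Prod.orderOf_mk, orderOf_one, Nat.lcm_one_left, hu]
  · intro W hW
    have hT : (rho (1 + 9) F 2 (bk hF ((1 : SU 1 F 2), u))) ^ 19 = 1 := by
      rw [← map_pow, ← map_pow, Prod.pow_mk, hul, one_pow]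
      have : bk hF ((1 : SU 1 F 2), (1 : SU 9 F 2)) = 1 := map_one (bk hF)
      rw [this, map_one]
    obtain ⟨i, j, h1, h2, h3, -⟩ := dim_one B.pr B.pos B.ord hT hW
    have hfd' : finrank F (fx (rho (1 + 9) F 2 (bk hF ((1 : SU 1 F 2), u)))) = 1 := hfd
    rw [hfd', finrank_fin_fun] at h2
    rw [hfd'] at h3
    exact ⟨i, j, h1, by omega, h3⟩

omit [Fintype F] in
theorem map_le_of_mem {W : Submodule F (Fin 10 → F)} {z : SU 10 F 2}
    (h : W.map (Matrix.toLin' (toG 10 F 2 z : Matrix (Fin 10) (Fin 10) F)) = W) :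
    ∀ w ∈ W, rho 10 F 2 z w ∈ W := by
  intro w hw
  rw [← h]
  exact Submodule.mem_map_of_mem hw

/-- elements `1 + [9]` and `[5] + [5]` of `SU_10(2)` -/
theorem inc_nineteen (h42 : S5842Stmt) (hF : Fintype.card F = 2 ^ 2) {x y : SU 10 F 2} (hx : orderOf x = 19)
    (hfx : fd x = 1) (hxD : IsD x (fun t => ∃ i j, t = 9 * i + j ∧ i ≤ 1 ∧ j ≤ 1))
    (hyD : IsD y (fun t => ∃ i, t = 5 * i)) : Inc x y := by
  have h19 : Nat.Prime 19 := by norm_num
  apply inc_of_coatom
  intro H hH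
  by_contra hcon
  rw [not_or] at hcon
  obtain ⟨h1, h2⟩ := hcon
  obtain ⟨g, hg⟩ := not_av h1
  obtain ⟨g', hg'⟩ := not_av h2
  have hM := isMaximalIn_map (toG 10 F 2) toG_injective hH
  rw [range_toG] at hM
  set M := H.map (toG 10 F 2) with hMdef
  have hgM : toG 10 F 2 (g * x * g⁻¹) ∈ M := ⟨_, hg, rfl⟩
  have hgM' : toG 10 F 2 (g' * y * g'⁻¹) ∈ M := ⟨_, hg', rfl⟩
  have hog : orderOf (toG 10 F 2 (g * x * g⁻¹)) = 19 := by
    rw [orderOf_injective _ toG_injective, ← hx]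
    exact orderOf_injective (MulAut.conj g).toMonoidHom (MulAut.conj g).injective x
  have hg19 : toG 10 F 2 (g * x * g⁻¹) ^ 19 = 1 := by rw [← hog, pow_orderOf_eq_one]
  -- dimensions
  have hdx : ∀ W : Submodule F (Fin 10 → F), (∀ w ∈ W, rho 10 F 2 (g * x * g⁻¹) w ∈ W) →
      ∃ i j, finrank F W = 9 * i + j ∧ i ≤ 1 ∧ j ≤ 1 := by
    intro W hW
    obtain ⟨W', hW', hW''⟩ := exists_inv_conj hW
    have := hxD W' hW''
    rwa [hW'] at this
  have hdy : ∀ W : Submodule F (Fin 10 → F), (∀ w ∈ W, rho 10 F 2 (g' * y * g'⁻¹) w ∈ W) →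
      ∃ i, finrank F W = 5 * i := by
    intro W hW
    obtain ⟨W', hW', hW''⟩ := exists_inv_conj hW
    have := hyD W' hW''
    rwa [hW'] at this
  have hred : ∀ W : Submodule F (Fin 10 → F), W ≠ ⊥ → W ≠ ⊤ → M ≤ subspaceStabilizer W → False := by
    intro W hW0 hW1 hW
    obtain ⟨i, j, h3, h4, h5⟩ := hdx W (fun w hw => ((hW hgM) w).1 hw)
    obtain ⟨k, h6⟩ := hdy W (fun w hw => ((hW hgM') w).1 hw)
    have h7 : finrank F W ≠ 0 := fun h => hW0 (Submodule.finrank_eq_zero.1 h)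
    have h8 := Submodule.finrank_lt hW1
    rw [finrank_fin_fun] at h8
    interval_cases i <;> interval_cases j <;> omega
  have hfive : ∀ D : Fin 2 → Submodule F (Fin 10 → F), IsMDecomposition 5 D →
      M ≤ decompositionStabilizer D → False := by
    intro D hD hle
    obtain ⟨i, j, h3, h4, h5⟩ := hdx (D 0) (map_le_of_mem (fix_decomp hD h19 (by norm_num) (hle hgM) hg19 0))
    rw [hD.finrank_eq] at h3
    interval_cases i <;> interval_cases j <;> omega
  rcases S5841.result 2 hF M hM with h | h | h | h | h | h | h | h | h | h | h | h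
  · obtain ⟨W, hW0, -, hW⟩ := h
    refine hred W hW0 ?_ (by rw [hW]; exact inf_le_left)
    rintro rfl
    apply hM.1.ne
    rw [hW, inf_eq_right]
    intro z _ v
    exact ⟨fun _ => trivial, fun _ => trivial⟩
  · obtain ⟨W, hW0, -, hW1, hW⟩ := h
    refine hred W hW0 ?_ (by rw [hW]; exact inf_le_left)
    rintro rfl
    rw [finrank_top, finrank_fin_fun] at hW1
    omega
  · obtain ⟨D, hD, hM2⟩ := h
    have hle : M ≤ decompositionStabilizer D := by rw [hM2]; exact inf_le_left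
    have hfix := fix_decomp hD.decomp h19 (by norm_num) (hle hgM) hg19
    have h3 : ∀ w ∈ D 0 ⊔ D 1, rho 10 F 2 (g * x * g⁻¹) w ∈ D 0 ⊔ D 1 := by
      apply map_le_of_mem
      rw [Submodule.map_sup, hfix, hfix]
    obtain ⟨i, j, h4, h5, h6⟩ := hdx _ h3
    have h7 : Disjoint (D 0) (D 1) := hD.decomp.indep.pairwiseDisjoint (by decide)
    have h8 := Submodule.finrank_sup_add_finrank_inf_eq (D 0) (D 1)
    rw [h7.eq_bot, finrank_bot, hD.decomp.finrank_eq, hD.decomp.finrank_eq, h4] at h8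
    interval_cases i <;> interval_cases j <;> omega
  · exact absurd h.1 (by norm_num)
  · obtain ⟨D, hD, hM2⟩ := h
    exact hfive D hD.decomp (by rw [hM2]; exact inf_le_left)
  · obtain ⟨D, hD, -, hM2⟩ := h
    exact hfive D hD (by rw [hM2]; exact inf_le_left)
  · obtain ⟨K, hK, -, hM2⟩ := h
    have hle : M ≤ subalgebraNormalizer K := by rw [hM2]; exact inf_le_left
    have h3 := ext_kill (s := 1) Nat.prime_five h19 (by norm_num) hK (hle hgM)
      (by rw [pow_one, ← hx, pow_orderOf_eq_one])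
    rw [pow_one, hfx] at h3
    omega
  · exact absurd h.1 (by norm_num)
  · obtain ⟨F₀, r, P, hr, hro, hc, -, -⟩ := h
    have h3 : 1 < Nat.card F₀ := Finite.one_lt_card
    have h4 : 3 ≤ r := by
      have := hr.two_le
      obtain ⟨k, hk⟩ := hro
      omega
    have h5 : 2 ^ 3 ≤ Nat.card F₀ ^ r := (Nat.pow_le_pow_left h3 3).trans (Nat.pow_le_pow_right (by omega) h4)
    rw [← hc, hF] at h5
    omega
  · obtain ⟨F₀, P, ζ, hc, -, -, -, -, hM2⟩ := h
    have hle : M ≤ subfieldSubgroup F₀ P := by rw [hM2]; exact inf_le_left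
    have h3 : 19 ∣ Nat.card (subfieldSubgroup F₀ P) := by
      rw [← hog, ← Subgroup.orderOf_mk _ (hle hgM)]
      exact orderOf_dvd_natCard _
    have h4 : Nat.card F₀ = 2 := by
      rw [hF] at hc
      exact (Nat.pow_left_injective (by norm_num : 2 ≠ 0) hc).symm
    rcases Cfsg.Agent.H659.CovCore.prime_dvd_subfield F₀ P h19 h3 with h5 | h5 | ⟨j, hj1, hj2, h5⟩
    · rw [hF] at h5
      omega
    · rw [h4] at h5
      omega
    · rw [h4] at h5
      interval_cases j <;> omega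
  · exact absurd h.1 (by decide)
  · obtain ⟨P, p, hc, hp, hcp, hlist⟩ := h42 2 hF M hM h
    have hp2 : p = 2 := by
      have h3 : p ∣ Fintype.card F := by
        rw [← CharP.cast_eq_zero_iff F p, FiniteField.cast_card_eq_zero]
      rw [hF] at h3
      exact (Nat.prime_dvd_prime_iff_eq hp Nat.prime_two).1 (hp.dvd_of_dvd_pow h3)
    subst hp2
    rcases hlist with h | h | h | h | h | h
    · exact h.2.2.1 rfl
    · have := h.2.2
      omega
    · have := h.2.2
      omega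
    · omega
    · omega
    · obtain ⟨e⟩ := h
      exact residual_false hF hc e hgM hog

/-- `U_10(2)` -/
theorem row_ten_two (hP : Cfsg.Agent.H659.CovCore.S5948Stmt.{0}) (h42 : S5842Stmt) (hF : Fintype.card F = 2 ^ 2) :
    NoTwo (SU 10 F 2) := by
  have hqp := isPrimePow_q hF
  obtain ⟨a, ha1, ha2, ha3⟩ := exists_nineteen hF
  obtain ⟨m₂, hm₂, num₂⟩ := exists_num_u (n := 10) (k := 7) hqp (by omega) (by omega) (by omega) (by decide)
    (by omega)
  obtain ⟨b, hb1, hb2⟩ := exists_nine (n := 10) (k := 7) hF (by omega) (by decide) (by omega) (by omega) hm₂ num₂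
  obtain ⟨l₃, B₃, hl₃, hu₃⟩ := exists_odd_block hF (k := 5) (by decide) (by norm_num) (by omega)
  obtain ⟨c, hc2⟩ := exists_double hF (n := 10) (by omega) B₃ hu₃
  have hba : Inc b a := by
    refine inc_of hP hF hb2 ha3 ?_ (s := 9) (by rw [hb1]; exact num₂) ?_
    · rintro i h0 h1 ⟨i₁, j₁, rfl, h2, h3⟩ ⟨i₂, j₂, h4, h5, h6⟩
      interval_cases i₁ <;> interval_cases j₁ <;> interval_cases i₂ <;> interval_cases j₂ <;> omega
    · intro r E g g' hr hrd _ _ _
      have h2 : Nat.gcd 10 7 = 1 := by norm_num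
      rw [h2] at hrd
      exact hr.one_lt.ne' (Nat.dvd_one.1 hrd)
  have hbc : Inc b c := by
    refine inc_of hP hF hb2 hc2 ?_ (s := 9) (by rw [hb1]; exact num₂) ?_
    · rintro i h0 h1 ⟨i₁, j₁, rfl, h2, h3⟩ ⟨i₂, h4⟩
      have g2 : i₂ ≤ 2 := by omega
      interval_cases i₁ <;> interval_cases j₁ <;> interval_cases i₂ <;> omega
    · intro r E g g' hr hrd _ _ _
      have h2 : Nat.gcd 10 7 = 1 := by norm_num
      rw [h2] at hrd
      exact hr.one_lt.ne' (Nat.dvd_one.1 hrd)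
  exact noTwo_of_three hba.symm hbc (inc_nineteen h42 hF ha1 ha2 ha3 hc2)

end Row

/-- **the rows `PSU_n(q)`, `n ≥ 10`** -/
theorem noTwo_psu (hP : Cfsg.Agent.H659.CovCore.S5948Stmt.{0}) (h42 : S5842Stmt) {n q : ℕ} {F : Type} [Field F]
    [Fintype F] (hF : Fintype.card F = q ^ 2) (hn : 10 ≤ n) : NoTwo (PSU n F q) := by
  by_cases h : n = 10 ∧ q = 2
  · obtain ⟨rfl, rfl⟩ := h
    exact (row_ten_two hP h42 hF).of_surjective Cfsg.Agent.H674.SUBlock.pr Cfsg.Agent.H674.SUBlock.pr_surjective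
  · exact noTwo_psu_of hP hF hn h

end Cfsg.Agent.H981.Cov
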