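import Cfsg.Agent.H981.Cov.Inc

/-!
# S2499, rows `PSU_n(q)`, `n ≥ 10` (task 3941): the generic rows
-/

set_option autoImplicit false

namespace Cfsg.Agent.H981.Cov

open Cfsg Cfsg.Geo Module Matrix
open Cfsg.Agent.H278.Cov
open Cfsg.Agent.H779.DP (rho rho_apply rho_injective)
open Cfsg.Agent.H809.SelfCent (toG toG_injective toG_val)
open Cfsg.Agent.H906.Cov (exists_num_u)

variable {F : Type} [Field F] [Fintype F] {n q : ℕ}

theorem isPrimePow_q (hF : Fintype.card F = q ^ 2) : IsPrimePow q := by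
  have h1 : IsPrimePow (q ^ 2) := by rw [← hF]; exact FiniteField.isPrimePow_card F
  exact (isPrimePow_pow_iff two_ne_zero).1 h1

theorem le_one_of_mul_le {k b : ℕ} (hk : 0 < k) (h : k * b ≤ k) : b ≤ 1 := by
  apply Nat.le_of_mul_le_mul_left _ hk
  rwa [mul_one]

theorem dvd_sub_of_gcd {r n k : ℕ} (h : r ∣ Nat.gcd n k) : r ∣ n - k :=
  Nat.dvd_sub (h.trans (Nat.gcd_dvd_left _ _)) (h.trans (Nat.gcd_dvd_right _ _))

theorem coprime_of_num {m l i k : ℕ} (hnum : Num (q ^ 2) n k m) (hl : l ∣ q ^ (2 * i) - 1) (h1 : 1 ≤ i)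
    (h2 : i < k) : Nat.Coprime l m := by
  have h3 := hnum.prim i h1 h2
  rw [← pow_mul] at h3
  exact (Nat.Coprime.coprime_dvd_right hl h3).symm

theorem coprime_of_ne {l₁ l₂ : ℕ} (h₁ : l₁.Prime) (h₂ : l₂.Prime) (h : l₁ ≠ l₂) : Nat.Coprime l₁ l₂ :=
  (Nat.coprime_primes h₁ h₂).2 h

/-- `n` odd -/
theorem row_odd (hP : Cfsg.Agent.H659.CovCore.S5948Stmt.{0}) (hF : Fintype.card F = q ^ 2) (hn : Odd n)
    (hn11 : 11 ≤ n) (hex : ¬ (n = 11 ∧ q = 2)) : NoTwo (SU n F q) := by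
  have hqp := isPrimePow_q hF
  obtain ⟨t, ht⟩ := hn
  have hodd2 : Odd (n - 2) := ⟨t - 1, by omega⟩
  have hodd8 : Odd (n - 8) := ⟨t - 4, by omega⟩
  have hnodd : Odd n := ⟨t, ht⟩
  obtain ⟨m₁, hm₁, num₁⟩ := exists_num_u (n := n) (k := n) hqp (by omega) le_rfl (by omega) hnodd (by omega)
  obtain ⟨a, ha1, ha2⟩ := exists_big (n := n) hF (c := 0) (k := n) (by omega) hnodd (by omega) (by omega) hm₁ num₁
  obtain ⟨m₂, hm₂, num₂⟩ := exists_num_u (n := n) (k := n - 2) hqp (by omega) (by omega) (by omega) hodd2 (by omega)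
  obtain ⟨b, hb1, hb2⟩ := exists_big (n := n) hF (c := 2) (k := n - 2) (by omega) hodd2 (by omega) (by omega) hm₂ num₂
  obtain ⟨l₁, B₁, hl₁, hu₁⟩ := exists_pos_even hF (d := 4) (by decide) (by norm_num)
  obtain ⟨l₂, B₂, hl₂, hu₂⟩ := exists_odd_block hF (k := n - 8) hodd8 (by omega) (by omega)
  obtain ⟨c, hc2, hc3, -⟩ := exists_pair (n := n) hF (d := 2 * 4) (e := n - 8) (by omega) hu₁ hu₂
    (coprime_of_ne B₁.pr B₂.pr (ne_of_prim hl₁ hl₂ (by omega))) dvd_rfl dvd_rfl B₁ B₂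
  have hba : Inc b a := by
    refine inc_of hP hF hb2 ha2 ?_ (s := 1) (by rw [hb1]; exact num₂) ?_
    · rintro i h0 h1 ⟨i₁, j₁, rfl, h2, h3⟩ ⟨i₂, j₂, h4, h5, h6⟩
      interval_cases i₁ <;> interval_cases i₂ <;> omega
    · intro r E g g' hr hrd _ _ _
      have h2 := dvd_sub_of_gcd hrd
      rw [show n - (n - 2) = 2 by omega] at h2
      have h3 : r = 2 := (Nat.prime_dvd_prime_iff_eq hr Nat.prime_two).1 h2
      have h4 := hrd.trans (Nat.gcd_dvd_left _ _)
      rw [h3] at h4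
      omega
  have hbc : Inc b c := by
    refine inc_of hP hF hb2 hc2 ?_ (s := 1) (by rw [hb1]; exact num₂) ?_
    · rintro i h0 h1 ⟨i₁, j₁, rfl, h2, h3⟩ ⟨i₂, j₂, h4, h5, h6⟩
      have h7 : j₂ ≤ 1 := le_one_of_mul_le (by omega) h6
      have h8 : i₂ ≤ 2 := by omega
      interval_cases i₁ <;> interval_cases j₂ <;> interval_cases i₂ <;> omega
    · intro r E g g' hr hrd _ _ _
      have h2 := dvd_sub_of_gcd hrd
      rw [show n - (n - 2) = 2 by omega] at h2
      have h3 : r = 2 := (Nat.prime_dvd_prime_iff_eq hr Nat.prime_two).1 h2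
      have h4 := hrd.trans (Nat.gcd_dvd_left _ _)
      rw [h3] at h4
      omega
  have hac : Inc a c := by
    refine inc_of hP hF ha2 hc2 ?_ (s := 1) (by rw [ha1]; exact num₁) ?_
    · rintro i h0 h1 ⟨i₁, j₁, rfl, h2, h3⟩ ⟨i₂, j₂, h4, h5, h6⟩
      interval_cases i₁ <;> omega
    · intro r E g g' hr hrd hE _ hg'
      rw [Nat.gcd_self] at hrd
      have h8 : r ∣ 8 := by
        rcases hc3 r E g' hr hE hg' with h | h
        · exact h
        · have := Nat.dvd_sub hrd h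
          rwa [show n - (n - 8) = 8 by omega] at this
      have h9 := dvd_eight_cases hr h8
      rw [h9] at hrd
      omega
  exact noTwo_of_three hba.symm hbc hac

/-- `n` even, `n ≥ 16`, or `n = 14`, `q ≠ 2` -/
theorem row_even (hP : Cfsg.Agent.H659.CovCore.S5948Stmt.{0}) (hF : Fintype.card F = q ^ 2) (hn : Even n)
    (hn14 : 14 ≤ n) (hex : ¬ (n = 14 ∧ q = 2)) : NoTwo (SU n F q) := by
  have hqp := isPrimePow_q hF
  obtain ⟨t, ht⟩ := hn
  have hodd1 : Odd (n - 1) := ⟨t - 1, by omega⟩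
  have hodd5 : Odd (n - 5) := ⟨t - 3, by omega⟩
  have hodd7 : Odd (n - 7) := ⟨t - 4, by omega⟩
  obtain ⟨m₁, hm₁, num₁⟩ := exists_num_u (n := n) (k := n - 1) hqp (by omega) (by omega) (by omega) hodd1 (by omega)
  obtain ⟨a, ha1, ha2⟩ := exists_big (n := n) hF (c := 1) (k := n - 1) (by omega) hodd1 (by omega) (by omega) hm₁ num₁
  obtain ⟨m₂, hm₂, num₂⟩ := exists_num_u (n := n) (k := n - 5) hqp (by omega) (by omega) (by omega) hodd5 (by omega)
  obtain ⟨l₁, B₁, hl₁, hu₁⟩ := exists_odd_block hF (k := 5) (by decide) (by norm_num) (by omega)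
  obtain ⟨l₂, hl₂, hlm₂, -⟩ := num₂.sub
  have B₂ : Bl F q (n - 5) (n - 5) l₂ := Bl.self hl₂ (by omega) (num_ord hF (by omega) num₂ hl₂ hlm₂)
  obtain ⟨b, hb2, hb3, s, hs⟩ := exists_pair (n := n) hF (d := 5) (e := n - 5) (by omega) hu₁
    (exists_tor hF hodd5 (by omega) (by omega) hm₂ (num_coprime hF (by omega) num₂))
    (coprime_of_num num₂ ((hl₁ (2 * 5)).2 dvd_rfl) (by norm_num) (by omega)) dvd_rfl hlm₂ B₁ B₂
  -- the third element
  obtain ⟨c, hc2, hc3⟩ : ∃ c : SU n F q,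
      IsD c (fun t => ∃ i j, t = 7 * i + (n - 7) * j ∧ 7 * i ≤ n ∧ j ≤ 1 ∧ (n ≠ 14 → i ≤ 1)) ∧
      (5 ∣ n → ∀ (E : Subalgebra F (Matrix (Fin n) (Fin n) F)) (g : SU n F q),
        IsFieldSubalgebra 5 E → toG n F q (g * c * g⁻¹) ∈ subalgebraNormalizer E → False) := by
    obtain ⟨l₃, B₃, hl₃, hu₃⟩ := exists_odd_block hF (k := 7) (by decide) (by norm_num) (by omega)
    by_cases h14 : n = 14
    · obtain ⟨c, hc⟩ := exists_double hF (n := n) (by omega) B₃ hu₃
      refine ⟨c, fun W hW => ?_, fun h => by omega⟩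
      obtain ⟨i, hi⟩ := hc W hW
      have h5 := Submodule.finrank_le W
      rw [finrank_fin_fun] at h5
      exact ⟨i, 0, by omega, by omega, by omega, fun h => absurd h14 h⟩
    · obtain ⟨l₄, B₄, hl₄, hu₄⟩ := exists_odd_block hF (k := n - 7) hodd7 (by omega) (by omega)
      obtain ⟨c, hc2, hc3, -⟩ := exists_pair (n := n) hF (d := 7) (e := n - 7) (by omega) hu₃ hu₄
        (coprime_of_ne B₃.pr B₄.pr (ne_of_prim hl₃ hl₄ (by omega))) dvd_rfl dvd_rfl B₃ B₄
      refine ⟨c, fun W hW => ?_, fun h5 E g hE hg => ?_⟩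
      · obtain ⟨i, j, h1, h2, h3⟩ := hc2 W hW
        exact ⟨i, j, h1, by omega, le_one_of_mul_le (by omega) h3, fun _ => by omega⟩
      · rcases hc3 5 E g Nat.prime_five hE hg with h | h
        · omega
        · omega
  have hab : Inc a b := by
    refine inc_of hP hF ha2 hb2 ?_ (s := 1) (by rw [ha1]; exact num₁) ?_
    · rintro i h0 h1 ⟨i₁, j₁, rfl, h2, h3⟩ ⟨i₂, j₂, h4, h5, h6⟩
      have h7 : j₂ ≤ 1 := le_one_of_mul_le (by omega) h6
      have h8 : i₂ ≤ 1 := by omega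
      interval_cases i₁ <;> interval_cases j₁ <;> interval_cases j₂ <;> interval_cases i₂ <;> omega
    · intro r E g g' hr hrd _ _ _
      have h2 := dvd_sub_of_gcd hrd
      rw [show n - (n - 1) = 1 by omega] at h2
      exact hr.one_lt.ne' (Nat.dvd_one.1 h2)
  have hac : Inc a c := by
    refine inc_of hP hF ha2 hc2 ?_ (s := 1) (by rw [ha1]; exact num₁) ?_
    · rintro i h0 h1 ⟨i₁, j₁, rfl, h2, h3⟩ ⟨i₂, j₂, h4, h5, h6, h7⟩
      by_cases h14 : n = 14
      · subst h14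
        have h8 : i₂ ≤ 2 := by omega
        interval_cases i₁ <;> interval_cases j₁ <;> interval_cases j₂ <;> interval_cases i₂ <;> omega
      · have h8 := h7 h14
        interval_cases i₁ <;> interval_cases j₁ <;> interval_cases j₂ <;> interval_cases i₂ <;> omega
    · intro r E g g' hr hrd _ _ _
      have h2 := dvd_sub_of_gcd hrd
      rw [show n - (n - 1) = 1 by omega] at h2
      exact hr.one_lt.ne' (Nat.dvd_one.1 h2)
  have hbc : Inc b c := by
    refine inc_of hP hF hb2 hc2 ?_ (s := s) (by rw [hs]; exact num₂) ?_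
    · rintro i h0 h1 ⟨i₁, j₁, rfl, h2, h3⟩ ⟨i₂, j₂, h4, h5, h6, h7⟩
      have h9 : j₁ ≤ 1 := le_one_of_mul_le (by omega) h3
      have h10 : i₁ ≤ 1 := by omega
      by_cases h14 : n = 14
      · subst h14
        have h8 : i₂ ≤ 2 := by omega
        interval_cases i₁ <;> interval_cases j₁ <;> interval_cases j₂ <;> interval_cases i₂ <;> omega
      · have h8 := h7 h14
        interval_cases i₁ <;> interval_cases j₁ <;> interval_cases j₂ <;> interval_cases i₂ <;> omega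
    · intro r E g g' hr hrd hE _ hg'
      have h2 := dvd_sub_of_gcd hrd
      rw [show n - (n - 5) = 5 by omega] at h2
      have h3 : r = 5 := (Nat.prime_dvd_prime_iff_eq hr Nat.prime_five).1 h2
      subst h3
      exact hc3 (hrd.trans (Nat.gcd_dvd_left _ _)) E g' hE hg'
  exact noTwo_of_three hab hbc hac

/-- `n = 12` -/
theorem row_twelve (hP : Cfsg.Agent.H659.CovCore.S5948Stmt.{0}) (hF : Fintype.card F = q ^ 2) :
    NoTwo (SU 12 F q) := by
  have hqp := isPrimePow_q hF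
  obtain ⟨m₁, hm₁, num₁⟩ := exists_num_u (n := 12) (k := 11) hqp (by omega) (by omega) (by omega) (by decide)
    (by omega)
  obtain ⟨a, ha1, ha2⟩ := exists_big (n := 12) hF (c := 1) (k := 11) (by omega) (by decide) (by omega) (by omega) hm₁ num₁
  obtain ⟨m₂, hm₂, num₂⟩ := exists_num_u (n := 12) (k := 7) hqp (by omega) (by omega) (by omega) (by decide)
    (by omega)
  obtain ⟨l₁, B₁, hl₁, hu₁⟩ := exists_odd_block hF (k := 5) (by decide) (by norm_num) (by omega)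
  obtain ⟨l₂, hl₂, hlm₂, -⟩ := num₂.sub
  have B₂ : Bl F q 7 7 l₂ := Bl.self hl₂ (by omega) (num_ord hF (by omega) num₂ hl₂ hlm₂)
  obtain ⟨b, hb2, hb3, s, hs⟩ := exists_pair hF (n := 12) (d := 5) (e := 7) (by omega) hu₁
    (exists_tor hF (by decide) (by omega) (by omega) hm₂ (num_coprime hF (by omega) num₂))
    (coprime_of_num num₂ ((hl₁ (2 * 5)).2 dvd_rfl) (by norm_num) (by omega)) dvd_rfl hlm₂ B₁ B₂
  obtain ⟨l₃, B₃, hl₃, hu₃⟩ := exists_pos_even hF (d := 6) (by decide) (by norm_num)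
  obtain ⟨c, hc2⟩ := exists_single (n := 12) B₃ hu₃
  have hab : Inc a b := by
    refine inc_of hP hF ha2 hb2 ?_ (s := 1) (by rw [ha1]; exact num₁) ?_
    · rintro i h0 h1 ⟨i₁, j₁, rfl, h2, h3⟩ ⟨i₂, j₂, h4, h5, h6⟩
      have g1 : i₁ ≤ 2 := by omega
      have g2 : i₂ ≤ 2 := by omega
      have g3 : j₁ ≤ 1 := by omega
      have g4 : j₂ ≤ 1 := by omega
      interval_cases i₁ <;> interval_cases j₁ <;> interval_cases i₂ <;> interval_cases j₂ <;> omega
    · intro r E g g' hr hrd _ _ _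
      have h2 := dvd_sub_of_gcd hrd
      exact hr.one_lt.ne' (Nat.dvd_one.1 h2)
  have hac : Inc a c := by
    refine inc_of hP hF ha2 hc2 ?_ (s := 1) (by rw [ha1]; exact num₁) ?_
    · rintro i h0 h1 ⟨i₁, j₁, rfl, h2, h3⟩ ⟨i₂, h4⟩
      have g1 : i₁ ≤ 1 := by omega
      have g2 : i₂ ≤ 2 := by omega
      have g3 : j₁ ≤ 1 := by omega
      interval_cases i₁ <;> interval_cases j₁ <;> interval_cases i₂ <;> omega
    · intro r E g g' hr hrd _ _ _
      have h2 := dvd_sub_of_gcd hrd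
      exact hr.one_lt.ne' (Nat.dvd_one.1 h2)
  have hbc : Inc b c := by
    refine inc_of hP hF hb2 hc2 ?_ (s := s) (by rw [hs]; exact num₂) ?_
    · rintro i h0 h1 ⟨i₁, j₁, rfl, h2, h3⟩ ⟨i₂, h4⟩
      have g1 : i₁ ≤ 1 := by omega
      have g2 : i₂ ≤ 2 := by omega
      have g3 : j₁ ≤ 1 := by omega
      interval_cases i₁ <;> interval_cases j₁ <;> interval_cases i₂ <;> omega
    · intro r E g g' hr hrd _ _ _
      have h2 : Nat.gcd 12 7 = 1 := by norm_num
      rw [h2] at hrd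
      exact hr.one_lt.ne' (Nat.dvd_one.1 hrd)
  exact noTwo_of_three hab hbc hac

/-- `n = 10`, `q ≠ 2` -/
theorem row_ten (hP : Cfsg.Agent.H659.CovCore.S5948Stmt.{0}) (hF : Fintype.card F = q ^ 2) (hq : q ≠ 2) :
    NoTwo (SU 10 F q) := by
  have hqp := isPrimePow_q hF
  obtain ⟨m₁, hm₁, num₁⟩ := exists_num_u (n := 10) (k := 9) hqp (by omega) (by omega) (by omega) (by decide)
    (by omega)
  obtain ⟨a, ha1, ha2⟩ := exists_big (n := 10) hF (c := 1) (k := 9) (by omega) (by decide) (by omega) (by omega) hm₁ num₁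
  obtain ⟨m₂, hm₂, num₂⟩ := exists_num_u (n := 10) (k := 7) hqp (by omega) (by omega) (by omega) (by decide)
    (by omega)
  obtain ⟨l₁, B₁, hl₁, hu₁⟩ := exists_odd_block hF (k := 3) (by decide) (by norm_num) (by omega)
  obtain ⟨l₂, hl₂, hlm₂, -⟩ := num₂.sub
  have B₂ : Bl F q 7 7 l₂ := Bl.self hl₂ (by omega) (num_ord hF (by omega) num₂ hl₂ hlm₂)
  obtain ⟨b, hb2, hb3, s, hs⟩ := exists_pair hF (n := 10) (d := 3) (e := 7) (by omega) hu₁
    (exists_tor hF (by decide) (by omega) (by omega) hm₂ (num_coprime hF (by omega) num₂))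
    (coprime_of_num num₂ ((hl₁ (2 * 3)).2 dvd_rfl) (by norm_num) (by omega)) dvd_rfl hlm₂ B₁ B₂
  obtain ⟨l₃, B₃, hl₃, hu₃⟩ := exists_odd_block hF (k := 5) (by decide) (by norm_num) (by omega)
  obtain ⟨c, hc2⟩ := exists_double hF (n := 10) (by omega) B₃ hu₃
  have hab : Inc a b := by
    refine inc_of hP hF ha2 hb2 ?_ (s := 1) (by rw [ha1]; exact num₁) ?_
    · rintro i h0 h1 ⟨i₁, j₁, rfl, h2, h3⟩ ⟨i₂, j₂, h4, h5, h6⟩
      have g1 : i₁ ≤ 2 := by omega
      have g2 : i₂ ≤ 2 := by omega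
      have g3 : j₁ ≤ 1 := by omega
      have g4 : j₂ ≤ 1 := by omega
      interval_cases i₁ <;> interval_cases j₁ <;> interval_cases i₂ <;> interval_cases j₂ <;> omega
    · intro r E g g' hr hrd _ _ _
      have h2 := dvd_sub_of_gcd hrd
      exact hr.one_lt.ne' (Nat.dvd_one.1 h2)
  have hac : Inc a c := by
    refine inc_of hP hF ha2 hc2 ?_ (s := 1) (by rw [ha1]; exact num₁) ?_
    · rintro i h0 h1 ⟨i₁, j₁, rfl, h2, h3⟩ ⟨i₂, h4⟩
      have g1 : i₁ ≤ 1 := by omega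
      have g2 : i₂ ≤ 2 := by omega
      have g3 : j₁ ≤ 1 := by omega
      interval_cases i₁ <;> interval_cases j₁ <;> interval_cases i₂ <;> omega
    · intro r E g g' hr hrd _ _ _
      have h2 := dvd_sub_of_gcd hrd
      exact hr.one_lt.ne' (Nat.dvd_one.1 h2)
  have hbc : Inc b c := by
    refine inc_of hP hF hb2 hc2 ?_ (s := s) (by rw [hs]; exact num₂) ?_
    · rintro i h0 h1 ⟨i₁, j₁, rfl, h2, h3⟩ ⟨i₂, h4⟩
      have g1 : i₁ ≤ 1 := by omega
      have g2 : i₂ ≤ 2 := by omega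
      have g3 : j₁ ≤ 1 := by omega
      interval_cases i₁ <;> interval_cases j₁ <;> interval_cases i₂ <;> omega
    · intro r E g g' hr hrd _ _ _
      have h2 : Nat.gcd 10 7 = 1 := by norm_num
      rw [h2] at hrd
      exact hr.one_lt.ne' (Nat.dvd_one.1 hrd)
  exact noTwo_of_three hab hbc hac

/-- the block `pos 3` for `q = 2` -/
theorem exists_pos_three (hF : Fintype.card F = 2 ^ 2) :
    ∃ l, Bl F 2 (2 * 3) 3 l ∧ (∀ m, l ∣ 2 ^ m - 1 ↔ 3 ∣ m) ∧ ∃ u : SU (2 * 3) F 2, orderOf u = l := by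
  obtain ⟨l, hl, hm, -, -⟩ := Cfsg.Agent.Lib.Zsigmondy.exists_primitive (a := 2) (n := 3) le_rfl (by norm_num)
    (by norm_num) (by norm_num)
  have h7 : l = 7 := (Nat.prime_dvd_prime_iff_eq hl (by norm_num)).1 ((hm 3).2 dvd_rfl)
  have ho : orderOf ((Nat.card F : ℕ) : ZMod l) = 3 := ord_of hF hm fun i => by omega
  refine ⟨l, Bl.two hF hl (not_dvd_q hl (by norm_num) le_rfl hm) (by norm_num) ho ((hm _).2 (by norm_num)) ?_, hm, ?_⟩
  · rw [h7]
    decide
  have h8 : l ∣ Nat.card (Cfsg.SU (2 * 3) F 2) := by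
    refine Cfsg.Agent.H809.SelfCent.dvd_card_SU hF (by omega) hl ?_ (by rw [h7]; norm_num)
    refine Dvd.dvd.mul_left ?_ _
    refine Dvd.dvd.trans ?_ (Finset.dvd_prod_of_mem _ (Finset.mem_range.2 (show 5 < 2 * 3 by omega)))
    rw [h7]
    decide
  have : Fact l.Prime := ⟨hl⟩
  exact exists_prime_orderOf_dvd_card' l h8

/-- `U_11(2)` -/
theorem row_eleven_two (hP : Cfsg.Agent.H659.CovCore.S5948Stmt.{0}) (hF : Fintype.card F = 2 ^ 2) :
    NoTwo (SU 11 F 2) := by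
  have hqp := isPrimePow_q hF
  obtain ⟨m₁, hm₁, num₁⟩ := exists_num_u (n := 11) (k := 11) hqp (by omega) (by omega) (by omega) (by decide)
    (by omega)
  obtain ⟨a, ha1, ha2⟩ := exists_big (n := 11) hF (c := 0) (k := 11) (by omega) (by decide) (by omega) (by omega) hm₁ num₁
  obtain ⟨m₂, hm₂, num₂⟩ := exists_num_u (n := 11) (k := 7) hqp (by omega) (by omega) (by omega) (by decide)
    (by omega)
  obtain ⟨l₁, B₁, hl₁, hu₁⟩ := exists_pos_even hF (d := 2) (by decide) (by norm_num)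
  obtain ⟨l₂, hl₂, hlm₂, -⟩ := num₂.sub
  have B₂ : Bl F 2 7 7 l₂ := Bl.self hl₂ (by omega) (num_ord hF (by omega) num₂ hl₂ hlm₂)
  obtain ⟨b, hb2, hb3, s, hs⟩ := exists_pair hF (n := 11) (d := 2 * 2) (e := 7) (by omega) hu₁
    (exists_tor hF (by decide) (by omega) (by omega) hm₂ (num_coprime hF (by omega) num₂))
    (coprime_of_num num₂ ((hl₁ (2 * 2)).2 dvd_rfl) (by norm_num) (by omega)) dvd_rfl hlm₂ B₁ B₂
  obtain ⟨l₃, B₃, hl₃, hu₃⟩ := exists_pos_three hF
  obtain ⟨l₄, B₄, hl₄, hu₄⟩ := exists_odd_block hF (k := 5) (by decide) (by norm_num) (by omega)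
  obtain ⟨c, hc2, hc3, -⟩ := exists_pair hF (n := 11) (d := 2 * 3) (e := 5) (by omega) hu₃ hu₄
    (coprime_of_ne B₃.pr B₄.pr (ne_of_prim hl₃ hl₄ (by omega))) dvd_rfl dvd_rfl B₃ B₄
  have hba : Inc b a := by
    refine inc_of hP hF hb2 ha2 ?_ (s := s) (by rw [hs]; exact num₂) ?_
    · rintro i h0 h1 ⟨i₁, j₁, rfl, h2, h3⟩ ⟨i₂, j₂, h4, h5, h6⟩
      have g1 : i₁ ≤ 2 := by omega
      have g2 : i₂ ≤ 2 := by omega
      have g3 : j₁ ≤ 1 := by omega
      have g4 : j₂ ≤ 1 := by omega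
      interval_cases i₁ <;> interval_cases j₁ <;> interval_cases i₂ <;> interval_cases j₂ <;> omega
    · intro r E g g' hr hrd _ _ _
      have h2 : Nat.gcd 11 7 = 1 := by norm_num
      rw [h2] at hrd
      exact hr.one_lt.ne' (Nat.dvd_one.1 hrd)
  have hbc : Inc b c := by
    refine inc_of hP hF hb2 hc2 ?_ (s := s) (by rw [hs]; exact num₂) ?_
    · rintro i h0 h1 ⟨i₁, j₁, rfl, h2, h3⟩ ⟨i₂, j₂, h4, h5, h6⟩
      have g1 : i₁ ≤ 2 := by omega
      have g2 : i₂ ≤ 2 := by omega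
      have g3 : j₁ ≤ 1 := by omega
      have g4 : j₂ ≤ 1 := by omega
      interval_cases i₁ <;> interval_cases j₁ <;> interval_cases i₂ <;> interval_cases j₂ <;> omega
    · intro r E g g' hr hrd _ _ _
      have h2 : Nat.gcd 11 7 = 1 := by norm_num
      rw [h2] at hrd
      exact hr.one_lt.ne' (Nat.dvd_one.1 hrd)
  have hac : Inc a c := by
    refine inc_of hP hF ha2 hc2 ?_ (s := 1) (by rw [ha1]; exact num₁) ?_
    · rintro i h0 h1 ⟨i₁, j₁, rfl, h2, h3⟩ ⟨i₂, j₂, h4, h5, h6⟩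
      have g1 : i₁ ≤ 2 := by omega
      have g2 : i₂ ≤ 2 := by omega
      have g3 : j₁ ≤ 1 := by omega
      have g4 : j₂ ≤ 1 := by omega
      interval_cases i₁ <;> interval_cases j₁ <;> interval_cases i₂ <;> interval_cases j₂ <;> omega
    · intro r E g g' hr hrd hE _ hg'
      rw [Nat.gcd_self] at hrd
      have h11 : r = 11 := (Nat.prime_dvd_prime_iff_eq hr (by norm_num)).1 hrd
      subst h11
      rcases hc3 11 E g' hr hE hg' with h | h
      · omega
      · omega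
  exact noTwo_of_three hba.symm hbc hac

end Cfsg.Agent.H981.Cov
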