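import Cfsg.Agent.H981.Cov.Elt
import Cfsg.Agent.H89.Cov.OgSU
import Cfsg.Agent.H906.Cov.EKill
import Cfsg.Agent.H906.Cov.Num
import Cfsg.Agent.H921.UnitBase

/-!
# S2499, rows `PSU_n(q)`, `n ≥ 10` (task 3941): pairs of incompatible classes
-/

set_option autoImplicit false

namespace Cfsg.Agent.H981.Cov

open Cfsg Cfsg.Geo Module Matrix Polynomial
open Cfsg.Agent.LieClassical.HermBasic
open Cfsg.Agent.H278.Cov
open Cfsg.Agent.H674.SUTools (cm cm_injective det_cm mkSU cm_mkSU cm_isom orderOf_cm)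
open Cfsg.Agent.H779.DP (rho rho_apply rho_injective)
open Cfsg.Agent.H809.SelfCent (toG toG_injective toG_val)

variable {F : Type} [Field F] [Fintype F] {n d e q : ℕ}

theorem isUnitaryForm_herm (hF : Fintype.card F = q ^ 2) : IsUnitaryForm (conj hF) (hermForm n F q) where
  ne_refl := Cfsg.Agent.H921.conj_ne_refl hF
  involutive := fun a => pow_q_pow_q hF a
  add_left := fun x y v => herm_add_left x y v
  smul_left := fun c x v => herm_smul_left c x v
  herm := fun v w => herm_swap hF w v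
  nondegenerate := by
    intro v hv
    obtain ⟨x, hx⟩ := exists_herm_ne_zero hF hv
    refine ⟨⟨x, fun h => hx (herm_eq_zero_swap hF h)⟩, ⟨x, hx⟩⟩

/-- an element of prime order `l ≠ r` normalising a field of degree `r` -/
theorem ext_kill {r l : ℕ} (hr : r.Prime) (hl : l.Prime) (hne : r ≠ l)
    {E : Subalgebra F (Matrix (Fin n) (Fin n) F)} (hE : IsFieldSubalgebra r E) {x g : SU n F q} {s : ℕ}
    (hx : toG n F q (g * x * g⁻¹) ∈ subalgebraNormalizer E) (hs : (x ^ s) ^ l = 1) : r ∣ fd (x ^ s) := by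
  have h1 : toG n F q (g * x ^ s * g⁻¹) ∈ subalgebraNormalizer E := by
    rw [← conj_pow, map_pow]
    exact Subgroup.pow_mem _ hx s
  have h2 : toG n F q (g * x ^ s * g⁻¹) ^ l = 1 := by
    rw [← map_pow, conj_pow, hs, mul_one, mul_inv_cancel, map_one]
  have hco : Nat.Coprime (orderOf (toG n F q (g * x ^ s * g⁻¹))) r := by
    rcases (Nat.dvd_prime hl).1 (orderOf_dvd_of_pow_eq_one h2) with h | h
    · rw [h]; exact Nat.coprime_one_left r
    · rw [h]; exact (Nat.coprime_primes hl hr).2 (Ne.symm hne)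
  have h3 := Cfsg.Agent.H906.Cov.ext_dvd hr hE h1 hco (X - 1)
  rw [← fd_conj (x ^ s) g]
  have h4 : aeval (Matrix.toLin' (toG n F q (g * x ^ s * g⁻¹) : Matrix (Fin n) (Fin n) F)) (X - 1 : F[X]) =
      rho n F q (g * x ^ s * g⁻¹) - 1 := by
    rw [map_sub, aeval_X, map_one]
    rfl
  rw [h4] at h3
  exact h3

/-- the dimensions of the invariant subspaces of `x` satisfy `D` -/
def IsD (x : SU n F q) (D : ℕ → Prop) : Prop :=
  ∀ W : Submodule F (Fin n → F), (∀ w ∈ W, rho n F q x w ∈ W) → D (finrank F W)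

/-- **the criterion** : `x` has a power with `Num` -/
theorem inc_of (hP : Cfsg.Agent.H659.CovCore.S5948Stmt.{0}) (hF : Fintype.card F = q ^ 2) {x y : SU n F q}
    {D₁ D₂ : ℕ → Prop} (hx : IsD x D₁) (hy : IsD y D₂)
    (hD : ∀ i, 0 < i → i < n → D₁ i → D₂ i → False)
    {k s : ℕ} (hnum : Num (q ^ 2) n k (orderOf (x ^ s)))
    (hE : ∀ (r : ℕ) (E : Subalgebra F (Matrix (Fin n) (Fin n) F)) (g g' : SU n F q), r.Prime → r ∣ Nat.gcd n k →
      IsFieldSubalgebra r E → toG n F q (g * x * g⁻¹) ∈ subalgebraNormalizer E →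
      toG n F q (g' * y * g'⁻¹) ∈ subalgebraNormalizer E → False) : Inc x y := by
  intro H hH
  by_contra hcon
  rw [not_or] at hcon
  obtain ⟨h1, h2⟩ := hcon
  obtain ⟨g, hg⟩ := not_av h1
  obtain ⟨g', hg'⟩ := not_av h2
  set K := H.map (toG n F q) with hK
  have hgK : toG n F q (g * x * g⁻¹) ∈ K := ⟨_, hg, rfl⟩
  have hgK' : toG n F q (g' * y * g'⁻¹) ∈ K := ⟨_, hg', rfl⟩
  have hfix : FixesForm (matrixSet K) (hermForm n F q) := by
    rintro _ ⟨_, ⟨z, hz, rfl⟩, rfl⟩ u v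
    exact z.2 u v
  have hdet : ∀ z ∈ K, Matrix.GeneralLinearGroup.det z = 1 := by
    rintro _ ⟨z, hz, rfl⟩
    apply Units.ext
    exact det_cm z
  have hne : ∃ z : GL (Fin n) F, FixesForm {(z : Matrix (Fin n) (Fin n) F)} (hermForm n F q) ∧
      Matrix.GeneralLinearGroup.det z = 1 ∧ z ∉ K := by
    obtain ⟨z, hz⟩ : ∃ z, z ∉ H := by
      by_contra hc
      push Not at hc
      exact hH (Subgroup.eq_top_iff' H |>.2 hc)
    refine ⟨toG n F q z, ?_, ?_, ?_⟩
    · intro w hw u v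
      rw [Set.mem_singleton_iff.1 hw]
      exact z.2 u v
    · apply Units.ext
      exact det_cm z
    · rintro ⟨w, hw, hwz⟩
      rw [toG_injective hwz] at hw
      exact hz hw
  have hgs : toG n F q (g * x * g⁻¹) ^ s ∈ K := Subgroup.pow_mem _ hgK s
  have hos : orderOf (toG n F q (g * x * g⁻¹) ^ s) = orderOf (x ^ s) := by
    rw [← map_pow, orderOf_injective _ toG_injective, conj_pow]
    exact orderOf_injective (MulAut.conj g).toMonoidHom (MulAut.conj g).injective (x ^ s)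
  have hog := Cfsg.Agent.H89.Cov.og_su hP hF (isUnitaryForm_herm hF) hfix hdet hne hgs (k := k)
    (by rw [hos, Fintype.card_fin, hF]; exact hnum)
  rcases hog with ⟨W, hW0, hW1, hW⟩ | ⟨r, E, hr, hrd, hEf, hEK⟩
  · have hinv : ∀ z : SU n F q, toG n F q z ∈ K → ∀ w ∈ W, rho n F q z w ∈ W := by
      intro z hz w hw
      exact ((hW hz) w).1 hw
    obtain ⟨W₁, hW₁, hW₁'⟩ := exists_inv_conj (hinv _ hgK)
    obtain ⟨W₂, hW₂, hW₂'⟩ := exists_inv_conj (hinv _ hgK')
    have h3 := hx W₁ hW₁'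
    have h4 := hy W₂ hW₂'
    rw [hW₁] at h3
    rw [hW₂] at h4
    refine hD _ ?_ ?_ h3 h4
    · rw [Nat.pos_iff_ne_zero]
      intro h
      exact hW0 (Submodule.finrank_eq_zero.1 h)
    · have h5 := Submodule.finrank_lt hW1
      rwa [finrank_fin_fun] at h5
  · rw [Fintype.card_fin] at hrd
    exact hE r E g g' hr hrd hEf (hEK hgK) (hEK hgK')

/-! ### the elements -/

theorem num_ord (hF : Fintype.card F = q ^ 2) {k m l : ℕ} (hk : 0 < k) (hnum : Num (q ^ 2) n k m) (hl : l.Prime)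
    (hlm : l ∣ m) : orderOf ((Nat.card F : ℕ) : ZMod l) = k := by
  have hq := two_le_q hF
  have key : ∀ i, ((Nat.card F : ℕ) : ZMod l) ^ i = 1 ↔ l ∣ (q ^ 2) ^ i - 1 := by
    intro i
    have h1 : 1 ≤ (q ^ 2) ^ i := Nat.one_le_pow _ _ (by positivity)
    rw [Nat.card_eq_fintype_card, hF, ← Nat.cast_pow, ← Nat.modEq_iff_dvd' h1,
      ← ZMod.natCast_eq_natCast_iff, Nat.cast_one]
    exact eq_comm
  rw [orderOf_eq_iff hk]
  refine ⟨(key k).2 (hlm.trans hnum.dvd), fun i hi hi0 h => ?_⟩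
  have h1 := (key i).1 h
  exact Nat.not_coprime_of_dvd_of_dvd hl.one_lt hlm h1 (hnum.prim i hi0 hi)

theorem num_coprime (hF : Fintype.card F = q ^ 2) {k m : ℕ} (hk : 1 < k) (hnum : Num (q ^ 2) n k m) :
    Nat.Coprime m (q + 1) := by
  have h1 := hnum.prim 1 le_rfl hk
  rw [pow_one] at h1
  refine Nat.Coprime.coprime_dvd_right ?_ h1
  have := Nat.sq_sub_sq q 1
  rw [one_pow] at this
  rw [this]
  exact Dvd.intro _ rfl

/-- elements `1 + [k]`, `k` odd -/
theorem exists_big (hF : Fintype.card F = q ^ 2) {c k m : ℕ} (hn : n = c + k) (hk : Odd k) (hk3 : 3 ≤ k)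
    (hex : ¬ (q = 2 ∧ k = 3)) (hm : m ∣ q ^ k + 1) (hnum : Num (q ^ 2) n k m) :
    ∃ x : SU n F q, orderOf (x ^ 1) = m ∧ IsD x (fun t => ∃ i j, t = k * i + j ∧ i ≤ 1 ∧ j ≤ c) := by
  subst hn
  obtain ⟨v, hv⟩ := exists_tor hF hk hk3 hex hm (num_coprime hF (by omega) hnum)
  obtain ⟨l, hl, hlm, -⟩ := hnum.sub
  have ho : orderOf ((Nat.card F : ℕ) : ZMod l) = k := num_ord hF (by omega) hnum hl hlm
  have B : Bl F q k k l := Bl.self hl (by omega) ho
  have hm0 : 0 < m := by rw [← hv]; exact orderOf_pos v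
  have hv2 : orderOf (v ^ (m / l)) = l := by
    rw [← hv]
    exact orderOf_pow_orderOf_div (orderOf_pos v).ne' (by rw [hv]; exact hlm)
  have hvl : (v ^ (m / l)) ^ l = 1 := by
    nth_rewrite 2 [← hv2]
    exact pow_orderOf_eq_one _
  have hvne : v ^ (m / l) ≠ 1 := by
    intro h
    rw [h, orderOf_one] at hv2
    exact B.pr.one_lt.ne hv2
  have hfv := B.ff _ hvl hvne
  refine ⟨bk hF ((1 : SU c F q), v), ?_, ?_⟩
  · rw [pow_one, orderOf_injective _ (bk_injective hF), Prod.orderOf_mk, orderOf_one, Nat.lcm_one_left, hv]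
  · intro W hW
    have hpow : bk hF ((1 : SU c F q), v) ^ (m / l) = bk hF ((1 : SU c F q), v ^ (m / l)) := by
      rw [← map_pow, Prod.pow_mk, one_pow]
    have hT : (rho (c + k) F q (bk hF ((1 : SU c F q), v) ^ (m / l))) ^ l = 1 := by
      rw [← map_pow, hpow, ← map_pow, Prod.pow_mk, hvl, one_pow]
      have : bk hF ((1 : SU c F q), (1 : SU k F q)) = 1 := map_one (bk hF)
      rw [this, map_one]
    have hpw : ∀ s : ℕ, ∀ w ∈ W, rho (c + k) F q (bk hF ((1 : SU c F q), v) ^ s) w ∈ W := by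
      intro s
      induction s with
      | zero => intro w hw; rw [pow_zero, rho_one_apply]; exact hw
      | succ s ih => intro w hw; rw [pow_succ', rho_mul_apply]; exact hW _ (ih w hw)
    have hfd : finrank F (fx (rho (c + k) F q (bk hF ((1 : SU c F q), v) ^ (m / l)))) = c := by
      change fd _ = c
      rw [hpow, fd_bk, hfv, fd_one, add_zero]
    obtain ⟨i, j, h1, h2, h3, -⟩ := dim_one hl (by omega) ho hT (hpw (m / l))
    rw [hfd, finrank_fin_fun] at h2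
    rw [hfd] at h3
    refine ⟨i, j, h1, ?_, h3⟩
    rcases Nat.lt_or_ge 1 i with h4 | h4
    · have : k * 2 ≤ k * i := Nat.mul_le_mul_left k h4
      omega
    · exact h4

/-- elements `[k] + [k]` : one element without fixed points -/
theorem exists_double (hF : Fintype.card F = q ^ 2) {k l : ℕ} (hn : n = k + k) (B : Bl F q k k l)
    (h : ∃ u : SU k F q, orderOf u = l) :
    ∃ x : SU n F q, IsD x (fun t => ∃ i, t = k * i) := by
  subst hn
  obtain ⟨u, hu⟩ := h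
  have hul : u ^ l = 1 := by rw [← hu, pow_orderOf_eq_one]
  have hune : u ≠ 1 := by
    intro h
    rw [h, orderOf_one] at hu
    exact B.pr.one_lt.ne hu
  refine ⟨bk hF (u, u), fun W hW => ?_⟩
  have hT : (rho (k + k) F q (bk hF (u, u))) ^ l = 1 := by
    rw [← map_pow, ← map_pow, Prod.pow_mk, hul]
    have : bk hF ((1 : SU k F q), (1 : SU k F q)) = 1 := map_one (bk hF)
    rw [this, map_one]
  obtain ⟨i, j, h1, h2, h3, -⟩ := dim_one B.pr B.pos B.ord hT hW
  have hfd : finrank F (fx (rho (k + k) F q (bk hF (u, u)))) = 0 := by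
    change fd _ = 0
    rw [fd_bk, B.ff u hul hune]
  rw [hfd] at h3
  exact ⟨i, by omega⟩

/-- one fixed point free element -/
theorem exists_single {k l : ℕ} (B : Bl F q n k l) (h : ∃ u : SU n F q, orderOf u = l) :
    ∃ x : SU n F q, IsD x (fun t => ∃ i, t = k * i) := by
  obtain ⟨u, hu⟩ := h
  have hul : u ^ l = 1 := by rw [← hu, pow_orderOf_eq_one]
  have hune : u ≠ 1 := by
    intro h
    rw [h, orderOf_one] at hu
    exact B.pr.one_lt.ne hu
  refine ⟨u, fun W hW => ?_⟩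
  have hT : (rho n F q u) ^ l = 1 := by rw [← map_pow, hul, map_one]
  obtain ⟨i, j, h1, h2, h3, -⟩ := dim_one B.pr B.pos B.ord hT hW
  have hfd : finrank F (fx (rho n F q u)) = 0 := B.ff u hul hune
  rw [hfd] at h3
  exact ⟨i, by omega⟩

/-- two blocks -/
theorem exists_pair (hF : Fintype.card F = q ^ 2) (hn : n = d + e) {m₁ m₂ k₁ l₁ k₂ l₂ : ℕ}
    (h₁ : ∃ u : SU d F q, orderOf u = m₁) (h₂ : ∃ v : SU e F q, orderOf v = m₂) (hco : m₁.Coprime m₂)
    (hl₁ : l₁ ∣ m₁) (hl₂ : l₂ ∣ m₂) (B₁ : Bl F q d k₁ l₁) (B₂ : Bl F q e k₂ l₂) :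
    ∃ x : SU n F q, IsD x (fun t => ∃ i j, t = k₁ * i + k₂ * j ∧ k₁ * i ≤ d ∧ k₂ * j ≤ e) ∧
      (∀ (r : ℕ) (E : Subalgebra F (Matrix (Fin n) (Fin n) F)) (g : SU n F q), r.Prime →
        IsFieldSubalgebra r E → toG n F q (g * x * g⁻¹) ∈ subalgebraNormalizer E → r ∣ d ∨ r ∣ e) ∧
      (∃ s, orderOf (x ^ s) = m₂) := by
  obtain ⟨x, s₁, s₂, h1, h2, h3, h4, h5, h6, h7⟩ := exists_two hF hn h₁ h₂ hco hl₁ hl₂ B₁ B₂
  refine ⟨x, ?_, ?_, m₁, h7⟩
  · intro W hW
    have hpw : ∀ s : ℕ, ∀ w ∈ W, rho n F q (x ^ s) w ∈ W := by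
      intro s
      induction s with
      | zero => intro w hw; rw [pow_zero, rho_one_apply]; exact hw
      | succ s ih => intro w hw; rw [pow_succ', rho_mul_apply]; exact hW _ (ih w hw)
    obtain ⟨i, j, h8, h9, h10⟩ := dim_two B₁.pr B₁.pos B₁.ord B₂.pr B₂.pos B₂.ord
      (T₁ := rho n F q (x ^ s₁)) (T₂ := rho n F q (x ^ s₂)) (by rw [← map_pow, h1, map_one])
      (by rw [← map_pow, h2, map_one]) (by rw [← map_mul, ← map_mul, ← pow_add, ← pow_add, add_comm]) h3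
      (hpw s₁) (hpw s₂)
    rw [finrank_fin_fun] at h9
    change k₁ * i + fd (x ^ s₁) ≤ n at h9
    change k₂ * j ≤ fd (x ^ s₁) at h10
    rw [h4] at h9 h10
    exact ⟨i, j, h8, by omega, h10⟩
  · intro r E g hr hE hg
    by_cases hne : r = l₁
    · left
      have hne2 : r ≠ l₂ := by
        intro h
        have h9 : l₁ = l₂ := by rw [← hne, h]
        have h10 := Nat.not_coprime_of_dvd_of_dvd B₁.pr.one_lt hl₁ (h9 ▸ hl₂)
        exact h10 hco
      have h8 := ext_kill hr B₂.pr hne2 hE hg h2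
      rwa [h5] at h8
    · right
      have h8 := ext_kill hr B₁.pr hne hE hg h1
      rwa [h4] at h8

theorem dvd_eight_cases {r : ℕ} (hr : r.Prime) (h : r ∣ 8) : r = 2 := by
  have : (8 : ℕ) = 2 ^ 3 := by norm_num
  rw [this] at h
  exact (Nat.prime_dvd_prime_iff_eq hr Nat.prime_two).1 (hr.dvd_of_dvd_pow h)

/-- two primitive primes with different exponents -/
theorem ne_of_prim {l₁ l₂ e₁ e₂ : ℕ} (h₁ : ∀ m, l₁ ∣ q ^ m - 1 ↔ e₁ ∣ m) (h₂ : ∀ m, l₂ ∣ q ^ m - 1 ↔ e₂ ∣ m)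
    (hne : e₁ ≠ e₂) : l₁ ≠ l₂ := by
  rintro rfl
  apply hne
  apply Nat.dvd_antisymm
  · rw [← h₁, h₂]
  · rw [← h₂, h₁]

end Cfsg.Agent.H981.Cov
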