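import Cfsg.Agent.H981.Cov.SU

/-!
# S2499, rows `PSU_n(q)`, `n ≥ 10` (task 3941): existence of the blocks
-/

set_option autoImplicit false

namespace Cfsg.Agent.H981.Cov

open Cfsg Module Matrix Polynomial
open Cfsg.Agent.LieClassical.HermBasic
open Cfsg.Agent.LieClassical (GUOrder.frob)
open Cfsg.Agent.H674.SUTools (cm cm_injective det_cm mkSU cm_mkSU cm_isom orderOf_cm)
open Cfsg.Agent.H674.SUBlock (blk blk_one blk_mul det_blk isom_blk blk_inj blk_castAdd blk_natAdd)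
open Cfsg.Agent.H779.DP (rho rho_apply rho_injective)
open Cfsg.Agent.H809.SelfCent (toG toG_injective toG_val isU_SU pow_eq_star dvd_card_SU)
open Cfsg.Agent.H956.SUTorus (exists_phi exists_iff)

variable {F : Type} [Field F] [Fintype F] {n d e q : ℕ}

theorem two_le_q (hF : Fintype.card F = q ^ 2) : 2 ≤ q := Cfsg.Agent.ClassicalGeometry.GUBasic.two_le hF

theorem ord_of (hF : Fintype.card F = q ^ 2) {l e k : ℕ} (hm : ∀ m, l ∣ q ^ m - 1 ↔ e ∣ m)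
    (he : ∀ i, e ∣ 2 * i ↔ k ∣ i) : orderOf ((Nat.card F : ℕ) : ZMod l) = k := by
  have hq := two_le_q hF
  have key : ∀ i, ((Nat.card F : ℕ) : ZMod l) ^ i = 1 ↔ k ∣ i := by
    intro i
    have h1 : 1 ≤ q ^ (2 * i) := Nat.one_le_pow _ _ (by omega)
    rw [← he i, ← hm, Nat.card_eq_fintype_card, hF, ← Nat.cast_pow, ← pow_mul, ← Nat.modEq_iff_dvd' h1,
      ← ZMod.natCast_eq_natCast_iff, Nat.cast_one]
    exact eq_comm
  apply Nat.dvd_antisymm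
  · rw [orderOf_dvd_iff_pow_eq_one, key]
  · rw [← key]
    exact pow_orderOf_eq_one _

theorem not_dvd_q {l e : ℕ} (hl : l.Prime) (he : 0 < e) (hq : 2 ≤ q) (hm : ∀ m, l ∣ q ^ m - 1 ↔ e ∣ m) :
    ¬ l ∣ q := by
  intro h
  have h1 : l ∣ q ^ e - 1 := (hm e).2 dvd_rfl
  have h2 : l ∣ q ^ e := dvd_pow h he.ne'
  have h3 : 1 ≤ q ^ e := Nat.one_le_pow _ _ (by omega)
  have h4 : l ∣ q ^ e - (q ^ e - 1) := Nat.dvd_sub h2 h1
  have h5 : q ^ e - (q ^ e - 1) = 1 := by omega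
  rw [h5] at h4
  exact hl.one_lt.ne' (Nat.dvd_one.1 h4)

theorem not_dvd_add {l e : ℕ} (he : 2 < e) (hm : ∀ m, l ∣ q ^ m - 1 ↔ e ∣ m) : ¬ l ∣ q + 1 := by
  intro h
  have h1 : l ∣ q ^ 2 - 1 := by
    have := Nat.sq_sub_sq q 1
    rw [one_pow] at this
    rw [this]
    exact Dvd.dvd.mul_right h _
  have := Nat.le_of_dvd (by norm_num) ((hm 2).1 h1)
  omega

theorem dvd_add_one {l k : ℕ} (hl : l.Prime) (hk : 0 < k) (hm : ∀ m, l ∣ q ^ m - 1 ↔ 2 * k ∣ m) :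
    l ∣ q ^ k + 1 := by
  have h1 : l ∣ q ^ (2 * k) - 1 := (hm _).2 dvd_rfl
  have h5 : ¬ l ∣ q ^ k - 1 := by
    rw [hm]
    intro h2
    have := Nat.le_of_dvd (by omega) h2
    omega
  have h6 : q ^ (2 * k) - 1 = (q ^ k + 1) * (q ^ k - 1) := by
    rw [mul_comm 2 k, pow_mul]
    have := Nat.sq_sub_sq (q ^ k) 1
    rwa [one_pow] at this
  rw [h6] at h1
  exact ((Nat.Prime.dvd_mul hl).1 h1).resolve_right h5

/-- the blocks `[k]`, `k` odd -/
theorem exists_odd_block (hF : Fintype.card F = q ^ 2) {k : ℕ} (hk : Odd k) (hk3 : 3 ≤ k)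
    (hex : ¬ (q = 2 ∧ k = 3)) : ∃ l, Bl F q k k l ∧ (∀ m, l ∣ q ^ m - 1 ↔ 2 * k ∣ m) ∧
      ∃ u : SU k F q, orderOf u = l := by
  have hq := two_le_q hF
  obtain ⟨l, hl, hm, -, -⟩ := Cfsg.Agent.Lib.Zsigmondy.exists_primitive (a := q) (n := 2 * k) hq (by omega)
    (by omega) (by omega)
  have ho : orderOf ((Nat.card F : ℕ) : ZMod l) = k :=
    ord_of hF hm fun i => ⟨fun h => Nat.dvd_of_mul_dvd_mul_left (by norm_num) h, fun h => Nat.mul_dvd_mul_left 2 h⟩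
  refine ⟨l, Bl.self hl (by omega) ho, hm, ?_⟩
  have h8 : l ∣ Nat.card (Cfsg.SU k F q) := by
    refine dvd_card_SU hF (by omega) hl ?_ (not_dvd_add (by omega) hm)
    refine Dvd.dvd.mul_left ?_ _
    refine Dvd.dvd.trans ?_ (Finset.dvd_prod_of_mem _ (Finset.mem_range.2 (show k - 1 < k by omega)))
    have h9 : Even (k - 1) := by
      obtain ⟨j, hj⟩ := hk
      exact ⟨j, by omega⟩
    rw [if_pos h9, Nat.sub_add_cancel (by omega)]
    exact dvd_add_one hl (by omega) hm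
  have : Fact l.Prime := ⟨hl⟩
  exact exists_prime_orderOf_dvd_card' l h8

/-- the blocks `pos d`, `d` even -/
theorem exists_pos_even (hF : Fintype.card F = q ^ 2) {d : ℕ} (hd : Even d) (hd2 : 2 ≤ d) :
    ∃ l, Bl F q (2 * d) d l ∧ (∀ m, l ∣ q ^ m - 1 ↔ 2 * d ∣ m) ∧ ∃ u : SU (2 * d) F q, orderOf u = l := by
  have hq := two_le_q hF
  obtain ⟨l, hl, hm, -, -⟩ := Cfsg.Agent.Lib.Zsigmondy.exists_primitive (a := q) (n := 2 * d) hq (by omega)
    (by omega) (by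
      rintro ⟨-, h⟩
      obtain ⟨c, hc⟩ := hd
      omega)
  have ho : orderOf ((Nat.card F : ℕ) : ZMod l) = d :=
    ord_of hF hm fun i => ⟨fun h => Nat.dvd_of_mul_dvd_mul_left (by norm_num) h, fun h => Nat.mul_dvd_mul_left 2 h⟩
  refine ⟨l, Bl.two hF hl (not_dvd_q hl (by omega) hq hm) (by omega) ho ((hm _).2 dvd_rfl) ?_, hm, ?_⟩
  · rw [if_pos hd, hm]
    intro h
    have := Nat.le_of_dvd (by omega) h
    omega
  have h8 : l ∣ Nat.card (Cfsg.SU (2 * d) F q) := by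
    refine dvd_card_SU hF (by omega) hl ?_ (not_dvd_add (by omega) hm)
    refine Dvd.dvd.mul_left ?_ _
    refine Dvd.dvd.trans ?_ (Finset.dvd_prod_of_mem _ (Finset.mem_range.2 (show 2 * d - 1 < 2 * d by omega)))
    have h9 : ¬ Even (2 * d - 1) := by
      rintro ⟨j, hj⟩
      omega
    rw [if_neg h9, Nat.sub_add_cancel (by omega)]
    exact (hm _).2 dvd_rfl
  have : Fact l.Prime := ⟨hl⟩
  exact exists_prime_orderOf_dvd_card' l h8

/-- elements of the torus of order `(q ^ k + 1) / (q + 1)` of `SU_k(q)`, `k` odd -/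
theorem exists_tor (hF : Fintype.card F = q ^ 2) {k m : ℕ} (hk : Odd k) (hk3 : 3 ≤ k) (hex : ¬ (q = 2 ∧ k = 3))
    (hm : m ∣ q ^ k + 1) (hco : Nat.Coprime m (q + 1)) : ∃ a : SU k F q, orderOf a = m := by
  have hq := two_le_q hF
  obtain ⟨l, B, hl, x, hx⟩ := exists_odd_block hF hk hk3 hex
  have hσ : ∀ x, Cfsg.Agent.LieClassical.GUOrder.frob hF x = x ^ q := fun x => rfl
  have hlq : ¬ l ∣ q := not_dvd_q B.pr (by omega) hq hl
  have hlk : l ∣ q ^ k + 1 := dvd_add_one B.pr (by omega) hl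
  have hxl : cm x ^ l = 1 := by rw [← map_pow, ← hx, pow_orderOf_eq_one, map_one]
  have hx1 : cm x ≠ 1 := by
    intro h
    rw [← orderOf_cm, h, orderOf_one] at hx
    exact B.pr.one_lt.ne hx
  obtain ⟨h5, h6⟩ := Cfsg.Agent.S2638.irr B.pr (natCast_ne_zero hF B.pr hlq)
    (by rw [← Nat.card_eq_fintype_card]; exact B.ord) hxl hx1
  obtain ⟨E, _, _, _, φ, hfr, hφ1, hφ2⟩ := exists_phi h5 h6
  obtain ⟨N, k', hN, hk', hg, hN0⟩ := Cfsg.Agent.H956.SUTorus.exists_num hk hq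
  have hM1 : cm x ^ (q ^ k + 1) = 1 := by
    obtain ⟨c, hc⟩ := hlk
    rw [hc, pow_mul, hxl, one_pow]
  have hstar : ∀ a : E, φ (a ^ q ^ k) = ((φ a).map (Cfsg.Agent.LieClassical.GUOrder.frob hF))ᵀ := by
    intro a
    obtain ⟨f, hf⟩ := hφ2 a
    rw [map_pow, hf]
    exact pow_eq_star hF hk hσ (isU_SU hσ (by omega) x) hM1 f
  have : Finite E := Module.finite_of_finite F
  have : Nonempty (Fin k) := ⟨⟨0, by omega⟩⟩
  have hcard : Nat.card Eˣ = (q ^ k + 1) * (q ^ k - 1) := by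
    rw [Nat.card_units, Cfsg.Agent.H926.Cc.card_E (F := F) (E := E), hfr, Nat.card_eq_fintype_card (α := F), hF,
      ← pow_mul, mul_comm 2 k, pow_mul]
    have := Nat.sq_sub_sq (q ^ k) 1
    rwa [one_pow] at this
  obtain ⟨g, hg1⟩ := IsCyclic.exists_generator (α := Eˣ)
  have hg2 : orderOf g = Nat.card Eˣ := orderOf_eq_card_of_forall_mem_zpowers hg1
  have hmd : m ∣ orderOf g := by
    rw [hg2, hcard]
    exact Dvd.dvd.mul_right hm _
  have hm0 : 0 < m := Nat.pos_of_dvd_of_pos hm (by positivity)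
  set a : Eˣ := g ^ (orderOf g / m) with ha
  have hoa : orderOf a = m := orderOf_pow_orderOf_div (by rw [hg2]; exact Nat.card_pos.ne') hmd
  have hmN : m ∣ N := by
    rw [← hN] at hm
    exact hco.dvd_of_dvd_mul_right hm
  have haN : (a : E) ^ N = 1 := by
    obtain ⟨c, hc⟩ := hmN
    rw [hc, pow_mul, ← Units.val_pow_eq_pow_val, ← hoa, pow_orderOf_eq_one, Units.val_one, one_pow]
  obtain ⟨y, hy⟩ := (exists_iff hF (by omega) hfr hstar hk' hg (a : E)).2 haN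
  refine ⟨y, ?_⟩
  rw [← orderOf_cm, hy]
  have h7 : orderOf (φ (a : E)) = orderOf (a : E) :=
    orderOf_injective (φ : E →* Matrix (Fin k) (Fin k) F) φ.toRingHom.injective (a : E)
  rw [h7, orderOf_units, hoa]

/-- elements with two blocks of coprime orders -/
theorem exists_two (hF : Fintype.card F = q ^ 2) (hn : n = d + e) {m₁ m₂ k₁ l₁ k₂ l₂ : ℕ}
    (h₁ : ∃ u : SU d F q, orderOf u = m₁) (h₂ : ∃ v : SU e F q, orderOf v = m₂) (hco : m₁.Coprime m₂)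
    (hl₁ : l₁ ∣ m₁) (hl₂ : l₂ ∣ m₂) (B₁ : Bl F q d k₁ l₁) (B₂ : Bl F q e k₂ l₂) :
    ∃ (x : SU n F q) (s₁ s₂ : ℕ), (x ^ s₁) ^ l₁ = 1 ∧ (x ^ s₂) ^ l₂ = 1 ∧
      fx (rho n F q (x ^ s₁)) ⊓ fx (rho n F q (x ^ s₂)) = ⊥ ∧ fd (x ^ s₁) = e ∧ fd (x ^ s₂) = d ∧
      orderOf (x ^ m₂) = m₁ ∧ orderOf (x ^ m₁) = m₂ := by
  subst hn
  obtain ⟨u, hu⟩ := h₁
  obtain ⟨v, hv⟩ := h₂
  have hm₁ : 0 < m₁ := by rw [← hu]; exact orderOf_pos u
  have hm₂ : 0 < m₂ := by rw [← hv]; exact orderOf_pos v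
  have hco₁ : l₁.Coprime m₂ := Nat.Coprime.coprime_dvd_left hl₁ hco
  have hco₂ : l₂.Coprime m₁ := Nat.Coprime.coprime_dvd_left hl₂ hco.symm
  set s₁ := m₁ / l₁ * m₂ with hs₁
  set s₂ := m₂ / l₂ * m₁ with hs₂
  have hpow : ∀ s, bk hF (u, v) ^ s = bk hF (u ^ s, v ^ s) := fun s => (map_pow (bk hF) (u, v) s).symm
  have hv1 : v ^ s₁ = 1 := by rw [hs₁, mul_comm, pow_mul, ← hv, pow_orderOf_eq_one, one_pow]
  have hu1 : u ^ s₂ = 1 := by rw [hs₂, mul_comm, pow_mul, ← hu, pow_orderOf_eq_one, one_pow]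
  have hu2 : orderOf (u ^ s₁) = l₁ := by
    rw [hs₁, pow_mul]
    have h1 : orderOf (u ^ (m₁ / l₁)) = l₁ := by
      rw [← hu]
      exact orderOf_pow_orderOf_div (orderOf_pos u).ne' (by rw [hu]; exact hl₁)
    rw [Nat.Coprime.orderOf_pow (by rw [h1]; exact hco₁), h1]
  have hv2 : orderOf (v ^ s₂) = l₂ := by
    rw [hs₂, pow_mul]
    have h1 : orderOf (v ^ (m₂ / l₂)) = l₂ := by
      rw [← hv]
      exact orderOf_pow_orderOf_div (orderOf_pos v).ne' (by rw [hv]; exact hl₂)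
    rw [Nat.Coprime.orderOf_pow (by rw [h1]; exact hco₂), h1]
  have hul : (u ^ s₁) ^ l₁ = 1 := by rw [← hu2, pow_orderOf_eq_one]
  have hvl : (v ^ s₂) ^ l₂ = 1 := by rw [← hv2, pow_orderOf_eq_one]
  have hune : u ^ s₁ ≠ 1 := by
    intro h
    rw [h, orderOf_one] at hu2
    exact B₁.pr.one_lt.ne hu2
  have hvne : v ^ s₂ ≠ 1 := by
    intro h
    rw [h, orderOf_one] at hv2
    exact B₂.pr.one_lt.ne hv2
  have hfu := B₁.ff _ hul hune
  have hfv := B₂.ff _ hvl hvne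
  refine ⟨bk hF (u, v), s₁, s₂, ?_, ?_, ?_, ?_, ?_, ?_, ?_⟩
  · rw [hpow, hv1, ← map_pow, Prod.pow_mk, hul, one_pow, ← map_one (bk hF)]
    rfl
  · rw [hpow, hu1, ← map_pow, Prod.pow_mk, hvl, one_pow, ← map_one (bk hF)]
    rfl
  · rw [Submodule.eq_bot_iff]
    rintro w ⟨hw1, hw2⟩
    have h1 : w ∈ fx (rho (d + e) F q (bk hF (u ^ s₁, v ^ s₂))) := by
      have h2 : bk hF (u ^ s₁, v ^ s₂) = bk hF (u, v) ^ s₁ * bk hF (u, v) ^ s₂ := by
        rw [hpow, hpow, ← map_mul, hv1, hu1, Prod.mk_mul_mk, one_mul, mul_one]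
      rw [mem_fx, h2, rho_mul_apply, mem_fx.1 hw2, mem_fx.1 hw1]
    have h2 : fd (bk hF (u ^ s₁, v ^ s₂)) = 0 := by rw [fd_bk, hfu, hfv]
    rw [fd, Submodule.finrank_eq_zero] at h2
    rw [h2, Submodule.mem_bot] at h1
    exact h1
  · rw [hpow, hv1, fd_bk, hfu, fd_one, zero_add]
  · rw [hpow, hu1, fd_bk, hfv, fd_one, add_zero]
  · rw [hpow]
    have h1 : v ^ m₂ = 1 := by rw [← hv, pow_orderOf_eq_one]
    rw [h1, orderOf_injective _ (bk_injective hF), Prod.orderOf_mk, orderOf_one, Nat.lcm_one_right,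
      Nat.Coprime.orderOf_pow (by rw [hu]; exact hco), hu]
  · rw [hpow]
    have h1 : u ^ m₁ = 1 := by rw [← hu, pow_orderOf_eq_one]
    rw [h1, orderOf_injective _ (bk_injective hF), Prod.orderOf_mk, orderOf_one, Nat.lcm_one_left,
      Nat.Coprime.orderOf_pow (by rw [hv]; exact hco.symm), hv]

end Cfsg.Agent.H981.Cov
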