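import Cfsg.Agent.H981.Cov.Nine

/-!
# S2499, rows `PSU_n(q)`, `n ≥ 10`, `(n, q) ≠ (10, 2)` (task 3941)
-/

set_option autoImplicit false

namespace Cfsg.Agent.H981.Cov

open Cfsg Cfsg.Agent.H278.Cov

variable {F : Type} [Field F] [Fintype F] {n q : ℕ}

/-- **the rows `SU_n(q)`, `n ≥ 10`, `(n, q) ≠ (10, 2)`** -/
theorem noTwo_su (hP : Cfsg.Agent.H659.CovCore.S5948Stmt.{0}) (hF : Fintype.card F = q ^ 2) (hn : 10 ≤ n)
    (hex : ¬ (n = 10 ∧ q = 2)) : NoTwo (SU n F q) := by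
  rcases Nat.even_or_odd n with he | ho
  · by_cases h10 : n = 10
    · subst h10
      exact row_ten hP hF fun h => hex ⟨rfl, h⟩
    by_cases h12 : n = 12
    · subst h12
      exact row_twelve hP hF
    have h14 : 14 ≤ n := by
      obtain ⟨t, ht⟩ := he
      omega
    by_cases h : n = 14 ∧ q = 2
    · obtain ⟨rfl, rfl⟩ := h
      exact row_fourteen_two hP hF
    · exact row_even hP hF he h14 h
  · have h11 : 11 ≤ n := by
      obtain ⟨t, ht⟩ := ho
      omega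
    by_cases h : n = 11 ∧ q = 2
    · obtain ⟨rfl, rfl⟩ := h
      exact row_eleven_two hP hF
    · exact row_odd hP hF ho h11 h

/-- **the rows `PSU_n(q)`, `n ≥ 10`, `(n, q) ≠ (10, 2)`** -/
theorem noTwo_psu_of (hP : Cfsg.Agent.H659.CovCore.S5948Stmt.{0}) (hF : Fintype.card F = q ^ 2) (hn : 10 ≤ n)
    (hex : ¬ (n = 10 ∧ q = 2)) : NoTwo (PSU n F q) :=
  (noTwo_su hP hF hn hex).of_surjective Cfsg.Agent.H674.SUBlock.pr Cfsg.Agent.H674.SUBlock.pr_surjective

end Cfsg.Agent.H981.Cov
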