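import Mathlib

/-!
# S2499, rows `PSU_n(q)`, `n ≥ 10` (task 3941): dimensions of invariant subspaces

`mult` : if `T` has prime order `l` on a space `V` over a finite field with `Q` elements and `Q` has order `k`
modulo `l`, then `k` divides `dim W - dim (W ⊓ fx T)` for every `T`-invariant subspace `W`.
-/

set_option autoImplicit false

namespace Cfsg.Agent.H981.Cov

open Module

variable {F : Type*} [Field F] [Finite F] {V : Type*} [AddCommGroup V] [Module F V] [FiniteDimensional F V]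

/-- the fixed space -/
def fx (T : V →ₗ[F] V) : Submodule F V := LinearMap.ker (T - 1)

omit [Finite F] [FiniteDimensional F V] in
theorem mem_fx {T : V →ₗ[F] V} {v : V} : v ∈ fx T ↔ T v = v := by
  rw [fx, LinearMap.mem_ker, LinearMap.sub_apply, sub_eq_zero]
  rfl

theorem card_submodule (W : Submodule F V) : Nat.card W = Nat.card F ^ finrank F W :=
  Module.natCard_eq_pow_finrank (K := F) (V := W)

theorem card_modEq {l : ℕ} (hl : l.Prime) {T : V →ₗ[F] V} (hT : T ^ l = 1) {W : Submodule F V}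
    (hW : ∀ w ∈ W, T w ∈ W) : Nat.card W ≡ Nat.card (W ⊓ fx T : Submodule F V) [MOD l] := by
  classical
  have := Fact.mk hl
  have : Finite V := Module.finite_of_finite F
  have : Fintype W := Fintype.ofFinite _
  let f : Function.End W := fun w => ⟨T w, hW w w.2⟩
  have hf : ∀ (n : ℕ) (w : W), (((f ^ n) w : W) : V) = (T ^ n) (w : V) := by
    intro n
    induction n with
    | zero => intro w; rfl
    | succ n ih =>
      intro w
      have h1 : (f ^ (n + 1)) w = f ((f ^ n) w) := by rw [pow_succ']; rfl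
      rw [h1, pow_succ']
      show T _ = T _
      rw [ih]
  have hfl : f ^ l ^ 1 = 1 := by
    funext w
    apply Subtype.ext
    rw [hf, pow_one, hT]
    rfl
  have h1 := Equiv.Perm.card_fixedPoints_modEq hfl
  have e : f.fixedPoints ≃ (W ⊓ fx T : Submodule F V) :=
    { toFun := fun w => ⟨(w : W), (w : W).2, mem_fx.2 (congrArg Subtype.val w.2)⟩
      invFun := fun v => ⟨⟨v, v.2.1⟩, Subtype.ext (mem_fx.1 v.2.2)⟩
      left_inv := fun _ => rfl
      right_inv := fun _ => rfl }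
  have h2 : Nat.card (W ⊓ fx T : Submodule F V) = Fintype.card f.fixedPoints := by
    rw [← Nat.card_congr e, Nat.card_eq_fintype_card]
  rw [h2, Nat.card_eq_fintype_card]
  exact h1

/-- **the multiplicity lemma** -/
theorem mult {l k : ℕ} (hl : l.Prime) (hk0 : 0 < k) (hk : orderOf ((Nat.card F : ℕ) : ZMod l) = k)
    {T : V →ₗ[F] V} (hT : T ^ l = 1) {W : Submodule F V} (hW : ∀ w ∈ W, T w ∈ W) :
    ∃ i, finrank F W = k * i + finrank F (W ⊓ fx T : Submodule F V) := by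
  have := Fact.mk hl
  have h1 := card_modEq hl hT hW
  rw [card_submodule, card_submodule] at h1
  have hle : finrank F (W ⊓ fx T : Submodule F V) ≤ finrank F W := Submodule.finrank_mono inf_le_left
  obtain ⟨d, hd⟩ := Nat.exists_eq_add_of_le hle
  set b := finrank F (W ⊓ fx T : Submodule F V) with hb
  have h2 := (ZMod.natCast_eq_natCast_iff _ _ _).2 h1
  rw [Nat.cast_pow, Nat.cast_pow, hd, pow_add] at h2
  have hu : ((Nat.card F : ℕ) : ZMod l) ≠ 0 := by
    intro h0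
    rw [h0, orderOf_zero] at hk
    omega
  have h3 : ((Nat.card F : ℕ) : ZMod l) ^ d = 1 := by
    have h4 : ((Nat.card F : ℕ) : ZMod l) ^ b ≠ 0 := pow_ne_zero _ hu
    apply mul_left_cancel₀ h4
    rw [h2, mul_one]
  obtain ⟨i, hi⟩ : k ∣ d := by
    rw [← hk]
    exact orderOf_dvd_of_pow_eq_one h3
  exact ⟨i, by rw [hd, hi]; ring⟩

/-- one element -/
theorem dim_one {l k : ℕ} (hl : l.Prime) (hk0 : 0 < k) (hk : orderOf ((Nat.card F : ℕ) : ZMod l) = k)
    {T : V →ₗ[F] V} (hT : T ^ l = 1) {W : Submodule F V} (hW : ∀ w ∈ W, T w ∈ W) :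
    ∃ i d, finrank F W = k * i + d ∧ k * i + finrank F (fx T) ≤ finrank F V ∧ d ≤ finrank F (fx T) ∧
      d = finrank F (W ⊓ fx T : Submodule F V) := by
  obtain ⟨i, hi⟩ := mult hl hk0 hk hT hW
  refine ⟨i, _, hi, ?_, Submodule.finrank_mono inf_le_right, rfl⟩
  have h1 := Submodule.finrank_sup_add_finrank_inf_eq W (fx T)
  have h2 : finrank F (W ⊔ fx T : Submodule F V) ≤ finrank F V := Submodule.finrank_le _
  omega

/-- two commuting elements without a common fixed vector -/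
theorem dim_two {l₁ k₁ l₂ k₂ : ℕ} (hl₁ : l₁.Prime) (hk₁ : 0 < k₁)
    (h₁ : orderOf ((Nat.card F : ℕ) : ZMod l₁) = k₁) (hl₂ : l₂.Prime) (hk₂ : 0 < k₂)
    (h₂ : orderOf ((Nat.card F : ℕ) : ZMod l₂) = k₂) {T₁ T₂ : V →ₗ[F] V} (hT₁ : T₁ ^ l₁ = 1) (hT₂ : T₂ ^ l₂ = 1)
    (hc : T₁ * T₂ = T₂ * T₁) (h0 : fx T₁ ⊓ fx T₂ = ⊥) {W : Submodule F V} (hW₁ : ∀ w ∈ W, T₁ w ∈ W)
    (hW₂ : ∀ w ∈ W, T₂ w ∈ W) :
    ∃ i j, finrank F W = k₁ * i + k₂ * j ∧ k₁ * i + finrank F (fx T₁) ≤ finrank F V ∧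
      k₂ * j ≤ finrank F (fx T₁) := by
  obtain ⟨i, d, h3, h4, h5, h6⟩ := dim_one hl₁ hk₁ h₁ hT₁ hW₁
  have hU : ∀ w ∈ W ⊓ fx T₁, T₂ w ∈ W ⊓ fx T₁ := by
    rintro w ⟨hw1, hw2⟩
    refine ⟨hW₂ w hw1, mem_fx.2 ?_⟩
    have : (T₁ * T₂) w = (T₂ * T₁) w := by rw [hc]
    change T₁ (T₂ w) = T₂ (T₁ w) at this
    rw [this, mem_fx.1 hw2]
  obtain ⟨j, hj⟩ := mult hl₂ hk₂ h₂ hT₂ hU
  have h7 : (W ⊓ fx T₁) ⊓ fx T₂ = ⊥ := by rw [inf_assoc, h0, inf_bot_eq]
  rw [h7, finrank_bot, add_zero] at hj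
  exact ⟨i, j, by rw [h3, h6, hj], h4, by rw [← hj, ← h6]; exact h5⟩

end Cfsg.Agent.H981.Cov
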