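import Cfsg.Agent.H981.Cov.RowU

/-!
# S2499, rows `PSU_n(q)`, `n ≥ 10` (task 3941): `U_14(2)`

For `q = 2` the block `[3]` is a monomial matrix of order `9` in `GU_3(2)`; the determinant is corrected by a scalar on
the other block.
-/

set_option autoImplicit false

namespace Cfsg.Agent.H981.Cov

open Cfsg Cfsg.Geo Module Matrix
open Cfsg.Agent.H278.Cov
open Cfsg.Agent.LieClassical (GUOrder.frob)
open Cfsg.Agent.H674.SUTools (cm cm_injective det_cm mkSU cm_mkSU cm_isom orderOf_cm)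
open Cfsg.Agent.H674.SUBlock (blk blk_one blk_mul det_blk isom_blk blk_inj blk_castAdd blk_natAdd)
open Cfsg.Agent.H779.DP (rho rho_apply rho_injective)
open Cfsg.Agent.H809.SelfCent (toG toG_injective toG_val)
open Cfsg.Agent.H906.Cov (exists_num_u)

variable {F : Type} [Field F] {n k q : ℕ}

/-- a monomial matrix with `Y ^ 3 = w` -/
def Y (w : F) : Matrix (Fin 3) (Fin 3) F := !![0, 0, w; 1, 0, 0; 0, 1, 0]

theorem det_Y (w : F) : (Y w).det = w := by
  simp [Y, Matrix.det_fin_three]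

theorem Y_cube (w : F) : Y w * (Y w * Y w) = w • (1 : Matrix (Fin 3) (Fin 3) F) := by
  ext i j
  fin_cases i <;> fin_cases j <;> simp [Y, Matrix.mul_apply, Fin.sum_univ_three]

variable [Fintype F]

theorem Y_isom (hF : Fintype.card F = q ^ 2) {w : F} (hw : w ^ (q + 1) = 1) :
    (Y w)ᵀ * (Y w).map (Cfsg.Agent.LieClassical.GUOrder.frob hF) = 1 := by
  have h : w * w ^ q = 1 := by rw [← pow_succ', hw]
  have hq : q ≠ 0 := by have := two_le_q hF; omega
  ext i j
  fin_cases i <;> fin_cases j <;>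
    simp [Y, Matrix.mul_apply, Fin.sum_univ_three, Cfsg.Agent.LieClassical.GUOrder.frob_apply, h, hq]

theorem smul_isom (hF : Fintype.card F = q ^ 2) {z : F} (hz : z ^ (q + 1) = 1) {B : Matrix (Fin k) (Fin k) F}
    (hB : Bᵀ * B.map (Cfsg.Agent.LieClassical.GUOrder.frob hF) = 1) :
    (z • B)ᵀ * (z • B).map (Cfsg.Agent.LieClassical.GUOrder.frob hF) = 1 := by
  have h : z * z ^ q = 1 := by rw [← pow_succ', hz]
  have h1 : (z • B).map (Cfsg.Agent.LieClassical.GUOrder.frob hF) =
      (z ^ q) • B.map (Cfsg.Agent.LieClassical.GUOrder.frob hF) := by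
    ext i j
    simp [Cfsg.Agent.LieClassical.GUOrder.frob_apply, mul_pow]
  rw [h1, Matrix.transpose_smul, Matrix.smul_mul, Matrix.mul_smul, hB, smul_smul, h, one_smul]

/-- elements `Y + z [k]` -/
theorem exists_nine (hF : Fintype.card F = 2 ^ 2) {m : ℕ} (hn : n = 3 + k) (hk : Odd k) (hk3 : 3 < k)
    (hk' : ¬ 3 ∣ k) (hm : m ∣ 2 ^ k + 1) (hnum : Num (2 ^ 2) n k m) :
    ∃ x : SU n F 2, orderOf (x ^ 9) = m ∧ IsD x (fun t => ∃ i j, t = k * i + 3 * j ∧ i ≤ 1 ∧ j ≤ 1) := by
  subst hn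
  have hco : Nat.Coprime m (2 + 1) := num_coprime hF (by omega) hnum
  obtain ⟨w, hw, hw1⟩ := Cfsg.Agent.LieClassical.GUOrder.exists_norm_one hF
  have hw3 : w ^ 3 = 1 := hw
  obtain ⟨v, hv⟩ := exists_tor hF hk (by omega) (by omega) hm hco
  set z : F := w ^ (2 * k) with hz
  have hz3 : z ^ 3 = 1 := by rw [hz, ← pow_mul, mul_comm, pow_mul, hw3, one_pow]
  have hdet : w * z ^ k = 1 := by
    have h3 : 3 ∣ 2 * k * k + 1 := by
      have h4 : k % 3 = 1 ∨ k % 3 = 2 := by omega
      apply Nat.dvd_of_mod_eq_zero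
      rw [Nat.add_mod, Nat.mul_mod, Nat.mul_mod 2 k]
      rcases h4 with h | h <;> rw [h]
    obtain ⟨c, hc⟩ := h3
    rw [hz, ← pow_mul, ← pow_succ', hc, pow_mul, hw3, one_pow]
  set x : SU (3 + k) F 2 := mkSU hF (blk (Y w) (z • cm v))
    (by rw [det_blk, det_Y, Matrix.det_smul, det_cm, Fintype.card_fin, mul_one, hdet])
    (isom_blk hF (Y_isom hF hw) (smul_isom hF hz3 (cm_isom hF v))) with hx
  have hcx : cm x = blk (Y w) (z • cm v) := rfl
  have hcx3 : cm (x ^ 3) = blk (w • 1) (z ^ 3 • cm v ^ 3) := by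
    rw [map_pow, hcx, pow_succ', pow_two, ← blk_mul, ← blk_mul, Y_cube]
    congr 1
    rw [← pow_two, ← pow_succ', smul_pow]
  have hx9 : x ^ 9 = bk hF ((1 : SU 3 F 2), v ^ 9) := by
    apply cm_injective
    have h1 : x ^ 9 = x ^ 3 * (x ^ 3 * x ^ 3) := by rw [← pow_add, ← pow_add]
    have h2 : v ^ 9 = v ^ 3 * (v ^ 3 * v ^ 3) := by rw [← pow_add, ← pow_add]
    rw [cm_bk, h1, h2, map_mul, map_mul, hcx3, ← blk_mul, ← blk_mul, map_one, map_mul, map_mul, map_pow, hz3]
    congr 1
    · rw [← pow_two, ← pow_succ', smul_pow, hw3, one_pow, one_smul]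
    · rw [one_smul]
  have hm0 : 0 < m := by rw [← hv]; exact orderOf_pos v
  have hov : orderOf (v ^ 9) = m := by
    rw [Nat.Coprime.orderOf_pow, hv]
    rw [hv]
    exact Nat.Coprime.pow_right 2 hco
  refine ⟨x, ?_, ?_⟩
  · rw [hx9, orderOf_injective _ (bk_injective hF), Prod.orderOf_mk, orderOf_one, Nat.lcm_one_left, hov]
  · intro W hW
    obtain ⟨l, hl, hlm, -⟩ := hnum.sub
    have ho : orderOf ((Nat.card F : ℕ) : ZMod l) = k := num_ord hF (by omega) hnum hl hlm
    have B : Bl F 2 k k l := Bl.self hl (by omega) ho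
    set v' := (v ^ 9) ^ (m / l) with hv'
    have hv2 : orderOf v' = l := by
      rw [hv', ← hov]
      exact orderOf_pow_orderOf_div (orderOf_pos _).ne' (by rw [hov]; exact hlm)
    have hvl : v' ^ l = 1 := by
      nth_rewrite 1 [← hv2]
      exact pow_orderOf_eq_one _
    have hvne : v' ≠ 1 := by
      intro h
      rw [h, orderOf_one] at hv2
      exact B.pr.one_lt.ne hv2
    have hfv := B.ff _ hvl hvne
    set s := 9 * (m / l) with hs
    have hxs : x ^ s = bk hF ((1 : SU 3 F 2), v') := by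
      rw [hs, pow_mul, hx9, ← map_pow, Prod.pow_mk, one_pow]
    have hT : (rho (3 + k) F 2 (x ^ s)) ^ l = 1 := by
      rw [← map_pow, hxs, ← map_pow, Prod.pow_mk, hvl, one_pow]
      have : bk hF ((1 : SU 3 F 2), (1 : SU k F 2)) = 1 := map_one (bk hF)
      rw [this, map_one]
    have hpw : ∀ s : ℕ, ∀ w ∈ W, rho (3 + k) F 2 (x ^ s) w ∈ W := by
      intro s
      induction s with
      | zero => intro w hw; rw [pow_zero, rho_one_apply]; exact hw
      | succ s ih => intro w hw; rw [pow_succ', rho_mul_apply]; exact hW _ (ih w hw)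
    have hfd : finrank F (fx (rho (3 + k) F 2 (x ^ s))) = 3 := by
      change fd _ = 3
      rw [hxs, fd_bk, hfv, fd_one, add_zero]
    obtain ⟨i, j, h1, h2, h3, h4⟩ := dim_one hl (by omega) ho hT (hpw s)
    rw [hfd, finrank_fin_fun] at h2
    rw [hfd] at h3
    have hi : i ≤ 1 := by
      rcases Nat.lt_or_ge 1 i with h5 | h5
      · have : k * 2 ≤ k * i := Nat.mul_le_mul_left k h5
        omega
      · exact h5
    -- the fixed space
    set U : Submodule F (Fin (3 + k) → F) := W ⊓ fx (rho (3 + k) F 2 (x ^ s)) with hU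
    have hzero : ∀ u ∈ fx (rho (3 + k) F 2 (x ^ s)), (fun i => u (Fin.natAdd 3 i)) = 0 := by
      intro u hu
      have h5 : (fun i => u (Fin.natAdd 3 i)) ∈ fx (rho k F 2 v') := by
        rw [mem_fx, rho_cm, Matrix.toLin'_apply]
        funext i
        rw [mem_fx, rho_cm, Matrix.toLin'_apply, hxs, cm_bk] at hu
        have h6 := congrFun hu (Fin.natAdd 3 i)
        rw [blk_mulVec_right] at h6
        exact h6
      rw [fd, Submodule.finrank_eq_zero] at hfv
      rw [hfv, Submodule.mem_bot] at h5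
      exact h5
    have hcube : ∀ u ∈ fx (rho (3 + k) F 2 (x ^ s)), rho (3 + k) F 2 (x ^ 3) u = w • u := by
      intro u hu
      have h5 := hzero u hu
      rw [rho_cm, Matrix.toLin'_apply, hcx3]
      funext i
      refine Fin.addCases (fun i => ?_) (fun i => ?_) i
      · rw [blk_mulVec_left, Matrix.smul_mulVec, Matrix.one_mulVec]
        rfl
      · rw [blk_mulVec_right, h5, Matrix.mulVec_zero, Pi.smul_apply]
        have h6 := congrFun h5 i
        have h7 : u (Fin.natAdd 3 i) = 0 := h6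
        rw [h7, smul_zero]
        rfl
    have hUx : ∀ u ∈ U, rho (3 + k) F 2 x u ∈ U := by
      rintro u ⟨hu1, hu2⟩
      refine ⟨hW u hu1, mem_fx.2 ?_⟩
      rw [← rho_mul_apply]
      have h5 : x ^ s * x = x * x ^ s := (pow_mul_comm' x s)
      rw [h5, rho_mul_apply, mem_fx.1 hu2]
    let f : U →ₗ[F] U := (rho (3 + k) F 2 x).restrict hUx
    have hf3 : f * (f * f) = w • (1 : U →ₗ[F] U) := by
      apply LinearMap.ext
      intro u
      apply Subtype.ext
      have h5 := hcube u.1 u.2.2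
      have h6 : x ^ 3 = x * (x * x) := by rw [pow_succ', pow_two]
      rw [h6, rho_mul_apply, rho_mul_apply] at h5
      exact h5
    have hdf : LinearMap.det f * (LinearMap.det f * LinearMap.det f) = w ^ finrank F U := by
      rw [← map_mul, ← map_mul, hf3, LinearMap.det_smul, map_one, mul_one]
    have hw0 : w ≠ 0 := by
      rintro rfl
      rw [zero_pow (by norm_num)] at hw
      exact zero_ne_one hw
    have hdf0 : LinearMap.det f ≠ 0 := by
      intro h0
      rw [h0, zero_mul] at hdf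
      exact pow_ne_zero _ hw0 hdf.symm
    have hdf3 : LinearMap.det f * (LinearMap.det f * LinearMap.det f) = 1 := by
      have h5 := FiniteField.pow_card_sub_one_eq_one (LinearMap.det f) hdf0
      rw [hF] at h5
      have h6 : (2 ^ 2 - 1 : ℕ) = 3 := by norm_num
      rw [h6, pow_succ', pow_two] at h5
      exact h5
    have how : orderOf w = 3 := orderOf_eq_prime hw3 hw1
    have h3U : 3 ∣ finrank F U := by
      have h5 : orderOf w ∣ finrank F U := by
        apply orderOf_dvd_of_pow_eq_one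
        rw [← hdf, hdf3]
      exact (dvd_of_eq how.symm).trans h5
    obtain ⟨c, hc⟩ := h3U
    rw [← h4] at hc
    exact ⟨i, c, by rw [h1, hc], hi, by omega⟩

/-- `U_14(2)` -/
theorem row_fourteen_two (hP : Cfsg.Agent.H659.CovCore.S5948Stmt.{0}) (hF : Fintype.card F = 2 ^ 2) :
    NoTwo (SU 14 F 2) := by
  have hqp := isPrimePow_q hF
  obtain ⟨m₁, hm₁, num₁⟩ := exists_num_u (n := 14) (k := 13) hqp (by omega) (by omega) (by omega) (by decide)
    (by omega)
  obtain ⟨a, ha1, ha2⟩ := exists_big (n := 14) hF (c := 1) (k := 13) (by omega) (by decide) (by omega) (by omega)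
    hm₁ num₁
  obtain ⟨m₂, hm₂, num₂⟩ := exists_num_u (n := 14) (k := 11) hqp (by omega) (by omega) (by omega) (by decide)
    (by omega)
  obtain ⟨b, hb1, hb2⟩ := exists_nine (n := 14) (k := 11) hF (by omega) (by decide) (by omega) (by omega) hm₂ num₂
  obtain ⟨l₃, B₃, hl₃, hu₃⟩ := exists_odd_block hF (k := 7) (by decide) (by norm_num) (by omega)
  obtain ⟨c, hc2⟩ := exists_double hF (n := 14) (by omega) B₃ hu₃
  have hab : Inc a b := by
    refine inc_of hP hF ha2 hb2 ?_ (s := 1) (by rw [ha1]; exact num₁) ?_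
    · rintro i h0 h1 ⟨i₁, j₁, rfl, h2, h3⟩ ⟨i₂, j₂, h4, h5, h6⟩
      interval_cases i₁ <;> interval_cases j₁ <;> interval_cases i₂ <;> interval_cases j₂ <;> omega
    · intro r E g g' hr hrd _ _ _
      have h2 := dvd_sub_of_gcd hrd
      exact hr.one_lt.ne' (Nat.dvd_one.1 h2)
  have hac : Inc a c := by
    refine inc_of hP hF ha2 hc2 ?_ (s := 1) (by rw [ha1]; exact num₁) ?_
    · rintro i h0 h1 ⟨i₁, j₁, rfl, h2, h3⟩ ⟨i₂, h4⟩
      have g2 : i₂ ≤ 2 := by omega
      interval_cases i₁ <;> interval_cases j₁ <;> interval_cases i₂ <;> omega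
    · intro r E g g' hr hrd _ _ _
      have h2 := dvd_sub_of_gcd hrd
      exact hr.one_lt.ne' (Nat.dvd_one.1 h2)
  have hbc : Inc b c := by
    refine inc_of hP hF hb2 hc2 ?_ (s := 9) (by rw [hb1]; exact num₂) ?_
    · rintro i h0 h1 ⟨i₁, j₁, rfl, h2, h3⟩ ⟨i₂, h4⟩
      have g2 : i₂ ≤ 2 := by omega
      interval_cases i₁ <;> interval_cases j₁ <;> interval_cases i₂ <;> omega
    · intro r E g g' hr hrd _ _ _
      have h2 : Nat.gcd 14 11 = 1 := by norm_num
      rw [h2] at hrd
      exact hr.one_lt.ne' (Nat.dvd_one.1 hrd)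
  exact noTwo_of_three hab hbc hac

end Cfsg.Agent.H981.Cov
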