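import Cfsg.Agent.H779.DP.UFix
import Cfsg.Agent.H956.SUTorus
import Cfsg.Agent.S2638
import Cfsg.Agent.H674.SUBlock
import Cfsg.Agent.Lib.Zsigmondy
import Cfsg.Agent.H981.Cov.Mult

/-!
# S2499, rows `PSU_n(q)`, `n ≥ 10` (task 3941): semisimple elements of `SU_n(q)` with prescribed blocks
-/

set_option autoImplicit false

namespace Cfsg.Agent.H981.Cov

open Cfsg Module Matrix
open Cfsg.Agent.LieClassical.HermBasic
open Cfsg.Agent.LieClassical.HermSiegel (act mat act_mul act_one act_inv_act act_act_inv)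
open Cfsg.Agent.H674.SUTools (cm cm_injective det_cm mkSU cm_mkSU cm_isom)
open Cfsg.Agent.H674.SUBlock (blk blk_one blk_mul det_blk isom_blk blk_inj blk_castAdd blk_natAdd)
open Cfsg.Agent.H779.DP (rho rho_apply rho_injective)

variable {F : Type} [Field F] {n d e q : ℕ}

theorem rho_cm (x : SU n F q) : rho n F q x = Matrix.toLin' (cm x) := rfl

/-- dimension of the fixed space -/
noncomputable def fd (x : SU n F q) : ℕ := finrank F (fx (rho n F q x))

theorem rho_mul_apply (x y : SU n F q) (v : Fin n → F) :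
    rho n F q (x * y) v = rho n F q x (rho n F q y v) := by
  rw [map_mul]; rfl

theorem rho_one_apply (v : Fin n → F) : rho n F q 1 v = v := by
  rw [map_one]; rfl

/-- the linear automorphism -/
noncomputable def le (g : SU n F q) : (Fin n → F) ≃ₗ[F] (Fin n → F) :=
  LinearEquiv.ofLinear (rho n F q g) (rho n F q g⁻¹)
    (LinearMap.ext fun v => by
      change rho n F q g (rho n F q g⁻¹ v) = v
      rw [← rho_mul_apply, mul_inv_cancel, rho_one_apply])
    (LinearMap.ext fun v => by
      change rho n F q g⁻¹ (rho n F q g v) = v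
      rw [← rho_mul_apply, inv_mul_cancel, rho_one_apply])

theorem le_apply (g : SU n F q) (v : Fin n → F) : le g v = rho n F q g v := rfl

theorem exists_inv_conj {x g : SU n F q} {W : Submodule F (Fin n → F)}
    (hW : ∀ w ∈ W, rho n F q (g * x * g⁻¹) w ∈ W) :
    ∃ W' : Submodule F (Fin n → F), finrank F W' = finrank F W ∧ ∀ w ∈ W', rho n F q x w ∈ W' := by
  refine ⟨W.map ((le g⁻¹ : (Fin n → F) ≃ₗ[F] (Fin n → F)) : (Fin n → F) →ₗ[F] (Fin n → F)),
    LinearEquiv.finrank_map_eq _ _, ?_⟩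
  rintro _ ⟨w, hw, rfl⟩
  refine ⟨rho n F q (g * x * g⁻¹) w, hW w hw, ?_⟩
  change rho n F q g⁻¹ (rho n F q (g * x * g⁻¹) w) = rho n F q x (rho n F q g⁻¹ w)
  rw [← rho_mul_apply, ← rho_mul_apply]
  congr 2
  group

theorem fd_conj (x g : SU n F q) : fd (g * x * g⁻¹) = fd x := by
  have h : fx (rho n F q (g * x * g⁻¹)) =
      (fx (rho n F q x)).map ((le g : (Fin n → F) ≃ₗ[F] (Fin n → F)) : (Fin n → F) →ₗ[F] (Fin n → F)) := by
    ext v
    rw [mem_fx, Submodule.mem_map]
    constructor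
    · intro hv
      refine ⟨rho n F q g⁻¹ v, ?_, ?_⟩
      · rw [mem_fx, ← rho_mul_apply]
        have h1 : x * g⁻¹ = g⁻¹ * (g * x * g⁻¹) := by group
        rw [h1, rho_mul_apply, hv]
      · change rho n F q g (rho n F q g⁻¹ v) = v
        rw [← rho_mul_apply, mul_inv_cancel, rho_one_apply]
    · rintro ⟨w, hw, rfl⟩
      rw [mem_fx] at hw
      change rho n F q (g * x * g⁻¹) (rho n F q g w) = rho n F q g w
      rw [← rho_mul_apply]
      have h1 : g * x * g⁻¹ * g = g * x := by group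
      rw [h1, rho_mul_apply, hw]
  rw [fd, h]
  exact LinearEquiv.finrank_map_eq _ _

theorem fd_le (x : SU n F q) : fd x ≤ n := by
  have := Submodule.finrank_le (fx (rho n F q x))
  rwa [finrank_fin_fun] at this

theorem eq_one_of_fd {x : SU n F q} (h : fd x = n) : x = 1 := by
  have h1 : fx (rho n F q x) = ⊤ := by
    apply Submodule.eq_top_of_finrank_eq
    rw [finrank_fin_fun]
    exact h
  apply rho_injective
  rw [map_one]
  apply LinearMap.ext
  intro v
  have h2 : v ∈ fx (rho n F q x) := by rw [h1]; trivial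
  exact mem_fx.1 h2

theorem fd_one : fd (1 : SU n F q) = n := by
  have h1 : fx (rho n F q (1 : SU n F q)) = ⊤ := by
    rw [Submodule.eq_top_iff']
    intro v
    rw [mem_fx, rho_one_apply]
  rw [fd, h1, finrank_top, finrank_fin_fun]

/-! ### block matrices -/

theorem blk_mulVec_left (A : Matrix (Fin d) (Fin d) F) (B : Matrix (Fin e) (Fin e) F) (v : Fin (d + e) → F)
    (i : Fin d) : (blk A B *ᵥ v) (Fin.castAdd e i) = (A *ᵥ fun i => v (Fin.castAdd e i)) i := by
  simp only [Matrix.mulVec, dotProduct]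
  rw [Fin.sum_univ_add]
  simp [blk]

theorem blk_mulVec_right (A : Matrix (Fin d) (Fin d) F) (B : Matrix (Fin e) (Fin e) F) (v : Fin (d + e) → F)
    (i : Fin e) : (blk A B *ᵥ v) (Fin.natAdd d i) = (B *ᵥ fun i => v (Fin.natAdd d i)) i := by
  simp only [Matrix.mulVec, dotProduct]
  rw [Fin.sum_univ_add]
  simp [blk]

theorem finrank_fx_blk (A : Matrix (Fin d) (Fin d) F) (B : Matrix (Fin e) (Fin e) F) :
    finrank F (fx (Matrix.toLin' (blk A B))) =
      finrank F (fx (Matrix.toLin' A)) + finrank F (fx (Matrix.toLin' B)) := by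
  have key : ∀ v : Fin (d + e) → F, v ∈ fx (Matrix.toLin' (blk A B)) ↔
      ((fun i => v (Fin.castAdd e i)) ∈ fx (Matrix.toLin' A) ∧
        (fun i => v (Fin.natAdd d i)) ∈ fx (Matrix.toLin' B)) := by
    intro v
    rw [mem_fx, mem_fx, mem_fx, Matrix.toLin'_apply, Matrix.toLin'_apply, Matrix.toLin'_apply]
    constructor
    · intro h
      constructor
      · funext i
        rw [← blk_mulVec_left, h]
      · funext i
        rw [← blk_mulVec_right, h]
    · rintro ⟨h1, h2⟩
      funext i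
      refine Fin.addCases (fun i => ?_) (fun i => ?_) i
      · rw [blk_mulVec_left, h1]
      · rw [blk_mulVec_right, h2]
  let f : fx (Matrix.toLin' (blk A B)) ≃ₗ[F] (fx (Matrix.toLin' A)) × (fx (Matrix.toLin' B)) :=
    { toFun := fun v => (⟨fun i => v.1 (Fin.castAdd e i), ((key v.1).1 v.2).1⟩,
        ⟨fun i => v.1 (Fin.natAdd d i), ((key v.1).1 v.2).2⟩)
      map_add' := fun _ _ => rfl
      map_smul' := fun _ _ => rfl
      invFun := fun p => ⟨Fin.append p.1.1 p.2.1, (key _).2 ⟨by simpa using p.1.2, by simpa using p.2.2⟩⟩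
      left_inv := fun v => by
        apply Subtype.ext
        funext i
        refine Fin.addCases (fun i => ?_) (fun i => ?_) i <;> simp
      right_inv := fun p => by
        apply Prod.ext <;> apply Subtype.ext <;> funext i <;> simp }
  rw [f.finrank_eq, finrank_prod]

variable [Fintype F]

/-- block diagonal elements -/
noncomputable def bk (hF : Fintype.card F = q ^ 2) : SU d F q × SU e F q →* SU (d + e) F q where
  toFun p := mkSU hF (blk (cm p.1) (cm p.2)) (by rw [det_blk, det_cm, det_cm, one_mul])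
    (isom_blk hF (cm_isom hF p.1) (cm_isom hF p.2))
  map_one' := by
    apply cm_injective
    rw [cm_mkSU, Prod.fst_one, Prod.snd_one, map_one, map_one, blk_one, map_one]
  map_mul' x y := by
    apply cm_injective
    rw [cm_mkSU, Prod.fst_mul, Prod.snd_mul, map_mul, map_mul, map_mul, cm_mkSU, cm_mkSU, ← blk_mul]

theorem cm_bk (hF : Fintype.card F = q ^ 2) (p : SU d F q × SU e F q) : cm (bk hF p) = blk (cm p.1) (cm p.2) := rfl

theorem bk_injective (hF : Fintype.card F = q ^ 2) :
    Function.Injective (bk hF : SU d F q × SU e F q →* SU (d + e) F q) := by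
  intro x y h
  have h1 := congrArg cm h
  rw [cm_bk, cm_bk] at h1
  obtain ⟨h2, h3⟩ := blk_inj h1
  exact Prod.ext (cm_injective h2) (cm_injective h3)

theorem fd_bk (hF : Fintype.card F = q ^ 2) (p : SU d F q × SU e F q) : fd (bk hF p) = fd p.1 + fd p.2 := by
  rw [fd, fd, fd, rho_cm, rho_cm, rho_cm, cm_bk, finrank_fx_blk]

/-! ### counting vectors of norm one -/

/-- the number of vectors of norm one -/
def nu (q m : ℕ) : ℕ := if Even m then q ^ (m - 1) * (q ^ m - 1) else q ^ (m - 1) * (q ^ m + 1)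

theorem fx_rho (x : SU n F q) : fx (rho n F q x) = Cfsg.Agent.GpUn.fx x := by
  ext v
  rw [mem_fx, rho_apply, Cfsg.Agent.GpUn.mem_fx]

theorem nu_modEq (hF : Fintype.card F = q ^ 2) {l : ℕ} (hl : l.Prime) (hlF : (l : F) ≠ 0) {x : SU n F q}
    (hx : x ^ l = 1) : nu q n ≡ nu q (fd x) [MOD l] := by
  classical
  have := Fact.mk hl
  have : Fintype {v : Fin n → F // hermForm n F q v v = 1} := Fintype.ofFinite _
  let f : Function.End {v : Fin n → F // hermForm n F q v v = 1} := fun v =>
    ⟨act x v.1, by rw [Cfsg.Agent.LieClassical.HermSiegel.herm_act]; exact v.2⟩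
  have hf : ∀ (m : ℕ) (w : {v : Fin n → F // hermForm n F q v v = 1}), ((f ^ m) w).1 = act (x ^ m) w.1 := by
    intro m
    induction m with
    | zero => intro w; rw [pow_zero, pow_zero, act_one]; rfl
    | succ m ih =>
      intro w
      have h1 : (f ^ (m + 1)) w = f ((f ^ m) w) := by rw [pow_succ']; rfl
      rw [h1, pow_succ', act_mul, ← ih]
  have hfl : f ^ l ^ 1 = 1 := by
    funext w
    apply Subtype.ext
    rw [hf, pow_one, hx, act_one]
    rfl
  have h1 := Equiv.Perm.card_fixedPoints_modEq hfl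
  have h2 : Fintype.card {v : Fin n → F // hermForm n F q v v = 1} = nu q n := by
    rw [← Nat.card_eq_fintype_card]
    exact Cfsg.Agent.LieClassical.HermCount.card_norm_one hF n
  have h3 : Fintype.card f.fixedPoints = nu q (fd x) := by
    rw [← Nat.card_eq_fintype_card, nu, ← Cfsg.Agent.LieClassical.HermCount.card_norm_one hF (fd x),
      ← Cfsg.Agent.H779.DP.card_norm_sub hF (Cfsg.Agent.H779.DP.nd_fx hF hlF hx) (by rw [← fx_rho]; rfl) 1]
    refine Nat.card_congr ⟨fun v => ⟨v.1.1, congrArg Subtype.val v.2, v.1.2⟩,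
      fun v => ⟨⟨v.1, v.2.2⟩, Subtype.ext v.2.1⟩, fun _ => rfl, fun _ => rfl⟩
  rw [h2, h3] at h1
  exact h1

theorem natCast_ne_zero (hF : Fintype.card F = q ^ 2) {l : ℕ} (hl : l.Prime) (h : ¬ l ∣ q) : (l : F) ≠ 0 := by
  intro h0
  obtain ⟨p, hp⟩ := CharP.exists F
  obtain ⟨k, hpp, hk⟩ := FiniteField.card F p
  have h1 : p ∣ l := (CharP.cast_eq_zero_iff F p l).1 h0
  have h2 : p = l := (Nat.prime_dvd_prime_iff_eq hpp hl).1 h1
  apply h
  rw [← h2]
  apply hpp.dvd_of_dvd_pow (n := 2)
  rw [← hF, hk]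
  exact dvd_pow_self _ k.pos.ne'

/-! ### fixed point free blocks -/

/-- every element of order `l` of `SU_d(q)` is fixed point free; the order of `q ^ 2` modulo `l` is `k` -/
structure Bl (F : Type) [Field F] [Fintype F] (q d k l : ℕ) : Prop where
  pr : l.Prime
  pos : 0 < k
  ord : orderOf ((Nat.card F : ℕ) : ZMod l) = k
  ff : ∀ w : SU d F q, w ^ l = 1 → w ≠ 1 → fd w = 0

theorem fd_mod {l k : ℕ} (hl : l.Prime) (hk : 0 < k) (ho : orderOf ((Nat.card F : ℕ) : ZMod l) = k)
    {x : SU n F q} (hx : x ^ l = 1) : ∃ i, n = k * i + fd x := by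
  have h1 : rho n F q x ^ l = 1 := by rw [← map_pow, hx, map_one]
  obtain ⟨i, hi⟩ := mult hl hk ho h1 (W := ⊤) (fun _ _ => trivial)
  rw [top_inf_eq, finrank_top, finrank_fin_fun] at hi
  exact ⟨i, hi⟩

theorem Bl.self {k l : ℕ} (hl : l.Prime) (hk : 0 < k) (ho : orderOf ((Nat.card F : ℕ) : ZMod l) = k) :
    Bl F q k k l where
  pr := hl
  pos := hk
  ord := ho
  ff := by
    intro w hw hw1
    obtain ⟨i, hi⟩ := fd_mod hl hk ho hw
    rcases Nat.eq_zero_or_pos i with h0 | h0
    · exfalso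
      rw [h0, mul_zero, zero_add] at hi
      exact hw1 (eq_one_of_fd hi.symm)
    · have : k * 1 ≤ k * i := Nat.mul_le_mul_left k h0
      omega

theorem Bl.two (hF : Fintype.card F = q ^ 2) {l : ℕ} (hl : l.Prime) (hlq : ¬ l ∣ q) (hd : 0 < d)
    (ho : orderOf ((Nat.card F : ℕ) : ZMod l) = d) (hm : l ∣ q ^ (2 * d) - 1)
    (hd2 : ¬ l ∣ (if Even d then q ^ d - 1 else q ^ d + 1)) : Bl F q (2 * d) d l where
  pr := hl
  pos := hd
  ord := ho
  ff := by
    intro w hw hw1
    obtain ⟨i, hi⟩ := fd_mod hl hd ho hw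
    rcases Nat.eq_zero_or_pos i with h0 | h0
    · exfalso
      rw [h0, mul_zero, zero_add] at hi
      exact hw1 (eq_one_of_fd hi.symm)
    rcases Nat.lt_or_ge 1 i with h1 | h1
    · have : d * 2 ≤ d * i := Nat.mul_le_mul_left d h1
      omega
    have h2 : i = 1 := by omega
    have h3 : fd w = d := by rw [h2] at hi; omega
    exfalso
    have h4 := nu_modEq hF hl (natCast_ne_zero hF hl hlq) hw
    have h5 : l ∣ nu q (2 * d) := by
      rw [nu, if_pos (even_two_mul d)]
      exact Dvd.dvd.mul_left hm _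
    have h6 : l ∣ nu q d := by
      rw [h3] at h4
      exact (Nat.ModEq.dvd_iff h4 dvd_rfl).1 h5
    apply hd2
    rw [nu] at h6
    split_ifs at h6 ⊢ with he
    · exact ((Nat.Prime.dvd_mul hl).1 h6).resolve_left fun h => hlq (hl.dvd_of_dvd_pow h)
    · exact ((Nat.Prime.dvd_mul hl).1 h6).resolve_left fun h => hlq (hl.dvd_of_dvd_pow h)

end Cfsg.Agent.H981.Cov
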